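import Cfsg.Agent.Lib.LinearGroups.AbelianHall
import Cfsg.Agent.Lib.CharTheory.Twist
import Cfsg.Agent.Lib.CharTheory.Linear
import Cfsg.Agent.Lib.CharTheory.Integral

/-!
# Blichfeldt: the large primes of a linear group carry an abelian Hall subgroup
-/

namespace CfsgLib.LinearGroups

open Cfsg CfsgLib.CharTheory
open scoped ComplexConjugate commutatorElement Pointwise

set_option linter.unusedVariables false
set_option linter.unusedSectionVars false
set_option maxHeartbeats 800000

universe u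

theorem card_mul_relIndex' {G : Type u} [Group G] {H K : Subgroup G} (h : H ≤ K) :
    Nat.card H * H.relIndex K = Nat.card K := by
  rw [← Nat.card_congr (Subgroup.subgroupOfEquivOfLe h).toEquiv]
  exact Subgroup.card_mul_index _

/-- The primes larger than `n + 1`. -/
def Large (n : ℕ) (q : ℕ) : Prop := q.Prime ∧ n + 1 < q

/-- `G` has a faithful character of degree at most `n`. -/
def Faith (n : ℕ) (G : Type u) [Group G] : Prop :=
  ∃ χ : G → ℂ, IsCharacter G χ ∧ (∀ g, χ g = χ 1 → g = 1) ∧ ∃ d : ℕ, χ 1 = d ∧ d ≤ n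

variable {G : Type u} [Group G] {n : ℕ}

theorem Faith.subgroup (h : Faith n G) (H : Subgroup G) : Faith n H := by
  obtain ⟨χ, hχ, hf, d, hd, hdn⟩ := h
  exact ⟨fun x => χ x, isCharacter_restrict hχ H,
    fun g hg => Subtype.ext (hf g (by simpa using hg)), d, by simpa using hd, hdn⟩

theorem Faith.constituents [Finite G] (h : Faith n G) :
    ∃ l : List (G → ℂ), (∀ θ ∈ l, IsIrrCharacter G θ) ∧
      (∀ g, (∀ θ ∈ l, θ g = θ 1) → g = 1) ∧
      ∃ ds : List ℕ, l.map (fun θ => θ 1) = ds.map (fun a : ℕ => (a : ℂ)) ∧ ds.sum ≤ n ∧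
        ∀ θ ∈ l, ∃ d : ℕ, 0 < d ∧ θ 1 = d ∧ d ≤ n := by
  classical
  haveI := Fintype.ofFinite G
  obtain ⟨χ, hχ, hf, d, hd, hdn⟩ := h
  obtain ⟨l, hl, rfl⟩ := exists_list_irr hχ
  have happ : ∀ (L : List (G → ℂ)) (g : G), L.sum g = (L.map fun θ => θ g).sum := by
    intro L g
    induction L with
    | nil => rfl
    | cons a t ih => simp [ih]
  have hdeg : ∀ L : List (G → ℂ), (∀ θ ∈ L, IsIrrCharacter G θ) →
      ∃ ds : List ℕ, L.map (fun θ => θ 1) = ds.map (fun a : ℕ => (a : ℂ)) ∧
        ∀ θ ∈ L, ∃ a ∈ ds, 0 < a ∧ θ 1 = (a : ℂ) := by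
    intro L
    induction L with
    | nil => exact fun _ => ⟨[], rfl, by simp⟩
    | cons a t ih =>
      intro hL
      obtain ⟨ds, h1, h2⟩ := ih fun θ hθ => hL θ (List.mem_cons_of_mem a hθ)
      obtain ⟨e, he, he'⟩ := irr_degree_pos (hL a List.mem_cons_self)
      refine ⟨e :: ds, by simp [h1, he'], ?_⟩
      intro θ hθ
      rcases List.mem_cons.1 hθ with rfl | hθ
      · exact ⟨e, List.mem_cons_self, he, he'⟩
      · obtain ⟨b, hb, hb'⟩ := h2 θ hθ
        exact ⟨b, List.mem_cons_of_mem e hb, hb'⟩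
  obtain ⟨ds, h1, h2⟩ := hdeg l hl
  have hsum : ds.sum ≤ n := by
    have e := happ l 1
    rw [h1, hd, ← Nat.cast_list_sum] at e
    exact (Nat.cast_inj.1 e) ▸ hdn
  refine ⟨l, hl, fun g hg => hf g ?_, ds, h1, hsum, fun θ hθ => ?_⟩
  · rw [happ, happ, List.map_congr_left hg]
  · obtain ⟨a, ha, hapos, ha'⟩ := h2 θ hθ
    exact ⟨a, hapos, ha', (List.le_sum_of_mem ha).trans hsum⟩

theorem irr_degree_dvd [Finite G] {θ : G → ℂ} (hθ : IsIrrCharacter G θ) {d : ℕ} (hd : θ 1 = d) :
    d ∣ Nat.card G := by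
  haveI := Fintype.ofFinite G
  obtain ⟨k, ρ, hρ, rfl⟩ := hθ
  haveI := hρ
  have e : (k : ℂ) = d := by
    rw [← hd, ρ.char_one, Module.finrank_fintype_fun_eq_card, Fintype.card_fin]
  have := finrank_dvd_card ρ
  rwa [Module.finrank_fintype_fun_eq_card, Fintype.card_fin, Nat.cast_inj.1 e] at this

/-- A group of order involving only large primes is abelian. -/
theorem Faith.comm_of_pi [Finite G] (h : Faith n G)
    (hpi : ∀ q : ℕ, q.Prime → q ∣ Nat.card G → Large n q) (x y : G) : x * y = y * x := by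
  classical
  haveI := Fintype.ofFinite G
  obtain ⟨l, hl, hf, -, -, -, hdeg⟩ := h.constituents
  refine commutatorElement_eq_one_iff_mul_comm.1 (hf _ fun θ hθ => ?_)
  obtain ⟨d, hd0, hd, hdn⟩ := hdeg θ hθ
  have hd1 : d = 1 := by
    by_contra hne
    obtain ⟨q, hq, hqd⟩ := Nat.exists_prime_and_dvd hne
    have h1 := (hpi q hq (hqd.trans (irr_degree_dvd (hl θ hθ) hd))).2
    have h2 := Nat.le_of_dvd hd0 hqd
    omega
  obtain ⟨φ, hφ⟩ := exists_hom_of_degree_one (isCharacter_of_irr (hl θ hθ)) (by rw [hd, hd1, Nat.cast_one])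
  rw [hφ]
  show ((φ ⁅x, y⁆ : ℂˣ) : ℂ) = ((φ 1 : ℂˣ) : ℂ)
  rw [map_commutatorElement, commutatorElement_eq_one_iff_mul_comm.2 (mul_comm _ _), map_one]

/-- A character moved by some Galois automorphism fixing the `p`-regular values. -/
theorem exists_twist [Fintype G] {θ : G → ℂ} (hθ : IsIrrCharacter G θ) {p : ℕ} (hp : p.Prime)
    {d : ℕ} (hd : θ 1 = d) (hdp : d + 1 < p) {x : G} (hx : orderOf x = p) (hmove : θ x ≠ θ 1) :
    ∃ θ' : G → ℂ, IsIrrCharacter G θ' ∧ θ' ≠ θ ∧ ∀ g, ¬ p ∣ orderOf g → θ' g = θ g := by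
  classical
  have hex : ∃ i : ℕ, i.Coprime p ∧ θ (x ^ i) ≠ θ x := by
    by_contra hne
    push Not at hne
    set X := Subgroup.zpowers x
    have hX : Nat.card X = p := by rw [Nat.card_zpowers, hx]
    obtain ⟨m, hm⟩ := classInner_char_nat (isCharacter_restrict (isCharacter_of_irr hθ) X)
      (isCharacter_one (G := X))
    rw [classInner, hX] at hm
    have hsum : ∑ g : X, θ g * conj ((fun _ : X => (1 : ℂ)) g) = (d : ℂ) + (p - 1 : ℕ) * θ x := by
      rw [← Finset.add_sum_erase _ _ (Finset.mem_univ (1 : X))]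
      simp only [map_one, mul_one, OneMemClass.coe_one, hd]
      congr 1
      rw [Finset.sum_congr rfl fun g hg => ?_, Finset.sum_const, Finset.card_erase_of_mem
        (Finset.mem_univ _), Finset.card_univ, ← Nat.card_eq_fintype_card, hX, nsmul_eq_mul]
      obtain ⟨i, hi⟩ := (mem_powers_iff_mem_zpowers (x := x)).2 g.2
      have hi' : x ^ i = (g : G) := hi
      rw [← hi', hne i ?_]
      rw [Nat.coprime_comm, hp.coprime_iff_not_dvd]
      intro hdvd
      refine (Finset.mem_erase.1 hg).1 (Subtype.ext ?_)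
      rw [← hi', OneMemClass.coe_one]
      exact orderOf_dvd_iff_pow_eq_one.1 (hx ▸ hdvd)
    rw [hsum] at hm
    have hp0 : (p : ℂ) ≠ 0 := Nat.cast_ne_zero.2 hp.ne_zero
    have heq : (d : ℂ) + (p - 1 : ℕ) * θ x = (p : ℂ) * m := by
      rw [← hm, ← mul_assoc, mul_inv_cancel₀ hp0, one_mul]
    have hp1 : ((p - 1 : ℕ) : ℂ) ≠ 0 := Nat.cast_ne_zero.2 (by have := hp.two_le; omega)
    have hrat : θ x = ((((p : ℚ) * m - d) / ((p - 1 : ℕ) : ℚ) : ℚ) : ℂ) := by
      push_cast
      rw [eq_div_iff hp1, ← heq]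
      ring
    obtain ⟨c, hc⟩ := exists_int_of_isIntegral_ratCast (hrat ▸ isIntegral_of_char (isCharacter_of_irr hθ) x)
    have hθx : θ x = (c : ℂ) := by rw [hrat, hc]; simp
    rw [hθx] at heq
    have heq' : (d : ℤ) + ((p - 1 : ℕ) : ℤ) * c = (p : ℤ) * m := by exact_mod_cast heq
    have hnorm := norm_char_le (isCharacter_of_irr hθ) x
    rw [hθx, hd, Complex.norm_intCast, Complex.norm_natCast] at hnorm
    have habs : |c| ≤ (d : ℤ) := by exact_mod_cast hnorm
    have hcd : c ≠ (d : ℤ) := fun e => hmove (by rw [hθx, hd, e]; simp)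
    rw [Nat.cast_sub hp.one_le, Nat.cast_one] at heq'
    have h3 := abs_le.1 habs
    have hc0 : 0 ≤ c := by
      by_contra hlt
      push Not at hlt
      have h5 : ((p : ℤ) - 1) * c ≤ ((p : ℤ) - 1) * (-1) :=
        mul_le_mul_of_nonneg_left (by omega) (by omega)
      have h6 : (0 : ℤ) ≤ (p : ℤ) * m := by positivity
      omega
    have h4 : (p : ℤ) ∣ (d : ℤ) - c := ⟨(m : ℤ) - c, by linarith⟩
    have h5 := Int.le_of_dvd (by omega) h4
    omega
  obtain ⟨i, hip, hi⟩ := hex
  obtain ⟨a, N', hN', hN⟩ := Nat.exists_eq_pow_mul_and_not_dvd (Nat.card_pos (α := G)).ne' p hp.ne_one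
  have hpN : p ∣ Nat.card G := hx ▸ orderOf_dvd_natCard x
  have hcop : (p ^ a).Coprime N' := ((hp.coprime_iff_not_dvd).2 hN').pow_left a
  obtain ⟨k, hk1, hk2⟩ := Nat.chineseRemainder hcop i 1
  have hcopk : (Nat.card G).Coprime k := by
    rw [hN, Nat.coprime_mul_iff_left]
    constructor
    · exact (Nat.Coprime.pow_left a (by
        rw [hp.coprime_iff_not_dvd]
        intro hpk
        have ha : a ≠ 0 := fun e => hN' (by rwa [hN, e, pow_zero, one_mul] at hpN)
        have := (hk1.of_dvd (dvd_pow_self p ha))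
        have h7 : p ∣ i := (Nat.modEq_zero_iff_dvd).1
          ((this.symm).trans ((Nat.modEq_zero_iff_dvd).2 hpk))
        exact (hp.coprime_iff_not_dvd.1 hip.symm) h7))
    · have h8 := Nat.ModEq.gcd_eq hk2
      rw [Nat.gcd_one_left] at h8
      rw [Nat.coprime_comm]
      exact h8
  refine ⟨fun g => θ (g ^ k), isIrrCharacter_powCoprime hθ hcopk, fun e => hi ?_, fun g hg => ?_⟩
  · have h1 := congrFun e x
    have ha : a ≠ 0 := fun e => hN' (by rwa [hN, e, pow_zero, one_mul] at hpN)
    have h2 : x ^ k = x ^ i := by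
      rw [pow_eq_pow_iff_modEq, hx]
      exact hk1.of_dvd (dvd_pow_self p ha)
    simp only [h2] at h1
    exact h1
  · show θ (g ^ k) = θ g
    have h1 : orderOf g ∣ N' := by
      refine Nat.Coprime.dvd_of_dvd_mul_left ?_ (hN ▸ orderOf_dvd_natCard g)
      exact (Nat.Coprime.pow_right a ((hp.coprime_iff_not_dvd).2 hg).symm)
    have h2 : g ^ k = g ^ 1 := by
      rw [pow_eq_pow_iff_modEq]
      exact hk2.of_dvd h1
    rw [h2, pow_one]

/-- Two large primes dividing the order occur together in the order of some element. -/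
theorem exists_pair [Finite G] (h : Faith n G) {p q : ℕ} (hp : Large n p) (hq : Large n q)
    (hpq : p ≠ q) (hpG : p ∣ Nat.card G) (hqG : q ∣ Nat.card G) : ∃ g : G, p * q ∣ orderOf g := by
  classical
  haveI := Fintype.ofFinite G
  haveI : Fact p.Prime := ⟨hp.1⟩
  haveI : Fact q.Prime := ⟨hq.1⟩
  by_contra hne
  push Not at hne
  obtain ⟨x, hx⟩ := exists_prime_orderOf_dvd_card' (G := G) p hpG
  obtain ⟨y, hy⟩ := exists_prime_orderOf_dvd_card' (G := G) q hqG
  obtain ⟨l, hl, hf, -, -, -, hdeg⟩ := h.constituents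
  have hcase : ∀ θ ∈ l, θ x = θ 1 ∨ θ y = θ 1 := by
    intro θ hθ
    by_contra hh
    push Not at hh
    obtain ⟨d, hd0, hd, hdn⟩ := hdeg θ hθ
    obtain ⟨θ1, h1, h1ne, h1eq⟩ := exists_twist (hl θ hθ) hp.1 hd (by have := hp.2; omega) hx hh.1
    obtain ⟨θ2, h2, h2ne, h2eq⟩ := exists_twist (hl θ hθ) hq.1 hd (by have := hq.2; omega) hy hh.2
    have hzero : classInner (θ - θ1) (θ - θ2) = 0 := by
      unfold classInner
      rw [Finset.sum_eq_zero, mul_zero]
      intro g _
      by_cases hpg : p ∣ orderOf g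
      · have hqg : ¬ q ∣ orderOf g := fun hqg =>
          hne g (Nat.Coprime.mul_dvd_of_dvd_of_dvd ((Nat.coprime_primes hp.1 hq.1).2 hpq) hpg hqg)
        simp [h2eq g hqg]
      · simp [h1eq g hpg]
    rw [classInner_sub_left, classInner_sub_right, classInner_sub_right,
      classInner_irr_self (hl θ hθ), classInner_irr_ne (hl θ hθ) h2 h2ne.symm,
      classInner_irr_ne h1 (hl θ hθ) h1ne, classInner_irr h1 h2] at hzero
    split_ifs at hzero <;> norm_num at hzero
  have hcomm : ⁅x, y⁆ = 1 := hf _ fun θ hθ => by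
    have hc := isCharacter_of_irr (hl θ hθ)
    rw [← mem_charKernel hc]
    rcases hcase θ hθ with e | e
    · have hxk := (mem_charKernel hc x).2 e
      rw [commutatorElement_def, mul_assoc, mul_assoc, ← mul_assoc y]
      exact (charKernel θ hc).mul_mem hxk ((charKernel_normal θ hc).conj_mem _ ((charKernel θ hc).inv_mem hxk) y)
    · have hyk := (mem_charKernel hc y).2 e
      rw [commutatorElement_def]
      exact (charKernel θ hc).mul_mem ((charKernel_normal θ hc).conj_mem _ hyk x)
        ((charKernel θ hc).inv_mem hyk)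
  refine hne (x * y) ?_
  rw [(show Commute x y from commutatorElement_eq_one_iff_mul_comm.1 hcomm).orderOf_mul_eq_mul_orderOf_of_coprime
    (by rw [hx, hy]; exact (Nat.coprime_primes hp.1 hq.1).2 hpq), hx, hy]

/-- A central element of large prime order is outside some normal subgroup of prime-power index
with abelian quotient. -/
theorem exists_hom_of_central [Finite G] (h : Faith n G) {p : ℕ} (hp : Large n p) {x : G}
    (hx : orderOf x = p) (hxc : ∀ g, g * x = x * g) :
    ∃ f : G →* ℂˣ, f x ≠ 1 ∧ IsPGroup p f.range := by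
  classical
  haveI := Fintype.ofFinite G
  haveI : Fact p.Prime := ⟨hp.1⟩
  obtain ⟨l, hl, hf, -, -, -, hdeg⟩ := h.constituents
  have hx1 : x ≠ 1 := fun e => by rw [e, orderOf_one] at hx; exact hp.1.ne_one hx.symm
  obtain ⟨θ, hθ, hmove⟩ : ∃ θ ∈ l, θ x ≠ θ 1 := by
    by_contra hh
    push Not at hh
    exact hx1 (hf x hh)
  obtain ⟨d, hd0, hd, hdn⟩ := hdeg θ hθ
  obtain ⟨k, ρ, hρ, hρθ⟩ := hl θ hθ
  obtain ⟨c, hc⟩ := (Representation.IsIrreducible.algebraMap_intertwiningMap_bijective_of_isAlgClosed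
    (ρ := ρ)).2 ⟨ρ x, fun g => by
      rw [← Module.End.mul_eq_comp, ← Module.End.mul_eq_comp, ← map_mul, ← map_mul, hxc g]⟩
  have hcx : ρ x = algebraMap ℂ (Module.End ℂ (Fin k → ℂ)) c := by
    have := congrArg Representation.IntertwiningMap.toLinearMap hc
    exact this.symm
  have hkd : k = d := by
    have e : θ 1 = (k : ℂ) := by
      rw [← hρθ, ρ.char_one, Module.finrank_fintype_fun_eq_card, Fintype.card_fin]
    rw [hd] at e
    exact (Nat.cast_inj.1 e).symm
  haveI : Nontrivial (Fin k → ℂ) := by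
    haveI : NeZero k := ⟨by omega⟩
    infer_instance
  have hc1 : c ≠ 1 := by
    intro e
    apply hmove
    rw [← hρθ]
    simp only [Representation.character, hcx, e, map_one]
  let φ : G →* ℂˣ := MonoidHom.toHomUnits ((LinearMap.det : Module.End ℂ (Fin k → ℂ) →* ℂ).comp ρ)
  obtain ⟨a, e, he, hN⟩ := Nat.exists_eq_pow_mul_and_not_dvd (Nat.card_pos (α := G)).ne' p hp.1.ne_one
  refine ⟨(powMonoidHom e).comp φ, fun hfx => ?_, ?_⟩
  · have h1 : ((φ x : ℂˣ) : ℂ) ^ e = 1 := by
      have := congrArg Units.val hfx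
      simpa using this
    have h2 : ((φ x : ℂˣ) : ℂ) = c ^ k := by
      show LinearMap.det (ρ x) = c ^ k
      rw [hcx, Algebra.algebraMap_eq_smul_one, LinearMap.det_smul,
        show LinearMap.det (1 : Module.End ℂ (Fin k → ℂ)) = 1 from map_one _, mul_one,
        Module.finrank_fintype_fun_eq_card, Fintype.card_fin]
    have hcp : c ^ p = 1 := by
      have h3 : (algebraMap ℂ (Module.End ℂ (Fin k → ℂ)) c) ^ p = 1 := by
        rw [← hcx, ← map_pow, ← hx, pow_orderOf_eq_one, map_one]
      rw [← map_pow] at h3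
      exact (algebraMap ℂ (Module.End ℂ (Fin k → ℂ))).injective (by rw [h3, map_one])
    rw [h2, ← pow_mul] at h1
    have hcop : p.Coprime (k * e) := by
      refine Nat.Coprime.mul_right ((hp.1.coprime_iff_not_dvd).2 fun hd' => ?_)
        ((hp.1.coprime_iff_not_dvd).2 he)
      have := Nat.le_of_dvd (by omega) hd'
      have := hp.2
      omega
    have := pow_gcd_eq_one.2 ⟨hcp, h1⟩
    rw [hcop, pow_one] at this
    exact hc1 this
  · rintro ⟨_, g, rfl⟩
    refine ⟨a, Subtype.ext ?_⟩
    show ((φ g) ^ e) ^ p ^ a = 1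
    rw [← pow_mul, ← map_pow, mul_comm, ← hN, pow_card_eq_one', map_one]

/-- **Blichfeldt's theorem**: the primes larger than `n + 1` carry an abelian Hall subgroup. -/
theorem exists_abHall : ∀ (N : ℕ) (G : Type u) [Group G] [Finite G], Nat.card G = N →
    Faith n G → ∃ H : Subgroup G, IsAbHall (Large n) H := by
  intro N
  induction N using Nat.strong_induction_on with
  | _ N ih =>
  intro G _ _ hN h
  classical
  have hab : ∀ X : Subgroup G, PiSub (Large n) X → ∀ x ∈ X, ∀ y ∈ X, x * y = y * x :=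
    fun X hX x hx y hy =>
      congrArg Subtype.val ((h.subgroup X).comm_of_pi hX (⟨x, hx⟩ : X) ⟨y, hy⟩)
  by_cases hnone : ∀ q : ℕ, q.Prime → q ∣ Nat.card G → ¬ Large n q
  · exact ⟨⊥, ⟨by simp, fun q hq hd => absurd hd (by simp [hq.ne_one]),
      fun q hq hπ hd => hnone q hq (by rwa [Subgroup.index_bot] at hd) hπ⟩⟩
  push Not at hnone
  obtain ⟨p, hp, hpG, hpL⟩ := hnone
  haveI : Fact p.Prime := ⟨hp⟩
  by_cases hcen : ∃ (q : ℕ) (x : G), Large n q ∧ orderOf x = q ∧ ∀ g, g * x = x * g
  · obtain ⟨q, x, hq, hx, hxc⟩ := hcen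
    haveI : Fact q.Prime := ⟨hq.1⟩
    obtain ⟨f, hfx, hfp⟩ := exists_hom_of_central h hq hx hxc
    set M := f.ker
    have hlt : Nat.card M < N := by
      rw [← hN]
      exact lt_of_le_of_ne (Subgroup.card_le_card_group M) fun e => hfx
        (MonoidHom.mem_ker.1 (show x ∈ M by rw [Subgroup.eq_top_of_card_eq M e]; trivial))
    obtain ⟨H₀, hH₀⟩ := ih _ hlt M rfl (h.subgroup M)
    set H := H₀.map M.subtype
    have hHM : H ≤ M := Subgroup.map_subtype_le H₀
    set Nm := Subgroup.normalizer (H : Set G)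
    -- Frattini
    have hfr : ∀ g : G, ∃ m ∈ M, m⁻¹ * g ∈ Nm := by
      intro g
      obtain ⟨α, hαdef⟩ : ∃ α : MulAut M, α = MulAut.conjNormal g := ⟨_, rfl⟩
      have hα : IsAbHall (Large n) (H₀.map α.toMonoidHom) :=
        { comm := by
            rintro _ ⟨a, ha, rfl⟩ _ ⟨b, hb, rfl⟩
            rw [← map_mul, ← map_mul, hH₀.comm a ha b hb]
          pi := fun r hr hd => hH₀.pi r hr (by
            rwa [← Nat.card_congr (H₀.equivMapOfInjective _ α.injective).toEquiv] at hd)
          idx := fun r hr hπ hd => hH₀.idx r hr hπ (by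
            rwa [show (H₀.map α.toMonoidHom).index = H₀.index from
              Subgroup.index_map_equiv H₀ α] at hd) }
      obtain ⟨m, hm⟩ := hH₀.exists_conj hα
      have key : H.map (MulAut.conj g).toMonoidHom = H.map (MulAut.conj (m : G)).toMonoidHom := by
        have e := congrArg (Subgroup.map M.subtype) hm
        rw [Subgroup.map_map, Subgroup.map_map] at e
        show (H₀.map M.subtype).map _ = (H₀.map M.subtype).map _
        rw [Subgroup.map_map, Subgroup.map_map]
        subst hαdef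
        exact e
      refine ⟨m, m.2, Subgroup.mem_normalizer_iff.2 fun z => ?_⟩
      constructor
      · intro hz
        obtain ⟨w, hw, hwz⟩ : g * z * g⁻¹ ∈ H.map (MulAut.conj (m : G)).toMonoidHom :=
          key ▸ ⟨z, hz, rfl⟩
        have : (m : G)⁻¹ * g * z * ((m : G)⁻¹ * g)⁻¹ = w := by
          change (m : G) * w * (m : G)⁻¹ = g * z * g⁻¹ at hwz
          calc (m : G)⁻¹ * g * z * ((m : G)⁻¹ * g)⁻¹ = (m : G)⁻¹ * (g * z * g⁻¹) * m := by group
            _ = (m : G)⁻¹ * ((m : G) * w * (m : G)⁻¹) * m := by rw [hwz]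
            _ = w := by group
        rw [this]; exact hw
      · intro hz
        obtain ⟨w, hw, hwz⟩ : g * z * g⁻¹ ∈ H.map (MulAut.conj g).toMonoidHom :=
          key ▸ ⟨_, hz, by show (m : G) * _ * (m : G)⁻¹ = _; group⟩
        have : w = z := mul_left_cancel (mul_right_cancel hwz)
        exact this ▸ hw
    obtain ⟨P⟩ := (inferInstance : Nonempty (Sylow q Nm))
    set P' := (P : Subgroup Nm).map Nm.subtype
    set X := H ⊔ P'
    have hpi : PiSub (Large n) X := by
      intro r hr hrd
      haveI : Fact r.Prime := ⟨hr⟩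
      obtain ⟨z, hz⟩ := exists_prime_orderOf_dvd_card' (G := X) r hrd
      by_cases hrq : r = q
      · exact hrq ▸ hq
      have hle : P' ≤ Subgroup.normalizer (H : Set G) := Subgroup.map_subtype_le _
      have hzH : ∃ j : ℕ, (z : G) ^ q ^ j ∈ H := by
        have hz2 : (z : G) ∈ (H ⊔ P' : Subgroup G) := z.2
        have hset : ((H ⊔ P' : Subgroup G) : Set G) = (H : Set G) * (P' : Set G) :=
          Subgroup.coe_mul_of_right_le_normalizer_left H P' hle
        rw [← SetLike.mem_coe, hset] at hz2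
        obtain ⟨a, ha, b, hb, hab⟩ := hz2
        obtain ⟨j, hj⟩ := (P.2.map Nm.subtype) ⟨b, hb⟩
        refine ⟨j, ?_⟩
        have hbN : b ∈ Subgroup.normalizer (H : Set G) := hle hb
        have : ∀ i : ℕ, (a * b) ^ i * (b ^ i)⁻¹ ∈ H := by
          intro i
          induction i with
          | zero => simp
          | succ i ih =>
            have h1 := (Subgroup.mem_normalizer_iff.1 hbN _).1 ih
            have h2 := H.mul_mem ha h1
            rwa [show a * (b * ((a * b) ^ i * (b ^ i)⁻¹) * b⁻¹) =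
              (a * b) ^ (i + 1) * (b ^ (i + 1))⁻¹ by rw [pow_succ', pow_succ' b]; group] at h2
        have h3 := this (q ^ j)
        have hj' : b ^ q ^ j = 1 := congrArg Subtype.val hj
        rw [hj', inv_one, mul_one] at h3
        simp only at hab
        rw [← hab]
        exact h3
      obtain ⟨j, hj⟩ := hzH
      have hzo : orderOf ((z : G) ^ q ^ j) = r := by
        rw [Nat.Coprime.orderOf_pow, Subgroup.orderOf_coe, hz]
        rw [Subgroup.orderOf_coe, hz]
        exact ((Nat.coprime_primes hr hq.1).2 hrq).pow_right j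
      have h4 := Subgroup.orderOf_dvd_natCard _ hj
      rw [hzo, ← Nat.card_congr (H₀.equivMapOfInjective _ M.subtype_injective).toEquiv] at h4
      exact hH₀.pi r hr h4
    refine ⟨X, hab X hpi, hpi, fun r hr hπ hd => hH₀.idx r hr hπ ?_⟩
    -- `X` covers the quotient
    have hXM : X.map f = f.range := by
      refine le_antisymm (Subgroup.map_le_range _ _) ?_
      have hle : P'.map f ≤ X.map f := Subgroup.map_mono le_sup_right
      refine le_trans ?_ hle
      let g : Nm →* f.range := f.rangeRestrict.comp Nm.subtype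
      have hg : Function.Surjective g := by
        rintro ⟨_, y, rfl⟩
        obtain ⟨m, hm, hm'⟩ := hfr y
        exact ⟨⟨_, hm'⟩, Subtype.ext (by
          show f (m⁻¹ * y) = f y
          rw [map_mul, map_inv, MonoidHom.mem_ker.1 hm, inv_one, one_mul])⟩
      have htop : (P : Subgroup Nm).map g = ⊤ := by
        rw [← Subgroup.index_eq_one]
        haveI : Finite f.range := Finite.of_surjective _ f.rangeRestrict_surjective
        obtain ⟨j, hj⟩ := hfp.index ((P : Subgroup Nm).map g)
        rcases Nat.eq_zero_or_pos j with rfl | hjp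
        · simpa using hj
        · exfalso
          refine P.not_dvd_index (dvd_trans ?_ (Subgroup.index_map_dvd (H := (P : Subgroup Nm)) hg))
          rw [hj]; exact dvd_pow_self q hjp.ne'
      rintro _ ⟨y, rfl⟩
      obtain ⟨z, hz, hzy⟩ : (⟨f y, y, rfl⟩ : f.range) ∈ (P : Subgroup Nm).map g := by
        rw [htop]; trivial
      exact ⟨z, ⟨z, hz, rfl⟩, congrArg Subtype.val hzy⟩
    have h1 : X.index ∣ H₀.index := by
      have e1 : X.index ∣ (X ⊓ M).relIndex M := by
        have hkey : (X ⊓ M).relIndex M = X.relIndex M := Subgroup.inf_relIndex_right X M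
        rw [hkey]
        have : X ⊔ M = ⊤ := by
          rw [eq_top_iff]
          intro y _
          obtain ⟨z, hz, hzy⟩ : f y ∈ X.map f := hXM ▸ ⟨y, rfl⟩
          have : z⁻¹ * y ∈ M := MonoidHom.mem_ker.2 (by rw [map_mul, map_inv, hzy, inv_mul_cancel])
          rw [show y = z * (z⁻¹ * y) by group]
          exact Subgroup.mul_mem _ (Subgroup.mem_sup_left hz) (Subgroup.mem_sup_right this)
        have e2 : M.relIndex X = M.index := by
          rw [← Subgroup.relIndex_sup_right, this, Subgroup.relIndex_top_right]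
        have e3 := Subgroup.card_mul_index X
        rw [← Subgroup.card_mul_index M] at e3
        have e4 : Nat.card (X ⊓ M : Subgroup G) * M.index = Nat.card X := by
          rw [← e2, ← Subgroup.inf_relIndex_left X M]
          exact CfsgLib.LinearGroups.card_mul_relIndex' inf_le_left
        have e5 : Nat.card (X ⊓ M : Subgroup G) * X.relIndex M = Nat.card M := by
          rw [← Subgroup.inf_relIndex_right X M]
          exact CfsgLib.LinearGroups.card_mul_relIndex' inf_le_right
        rw [← e4, ← e5] at e3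
        refine dvd_of_eq (Nat.eq_of_mul_eq_mul_left (Nat.mul_pos Nat.card_pos
          (Nat.pos_of_ne_zero M.index_ne_zero_of_finite) :
            0 < Nat.card (X ⊓ M : Subgroup G) * M.index) ?_)
        rw [e3]; ring
      refine e1.trans ?_
      have : H.relIndex M = H₀.index := by
        show ((H₀.map M.subtype).subgroupOf M).index = _
        rw [Subgroup.subgroupOf, Subgroup.comap_map_eq_self_of_injective M.subtype_injective]
      rw [← this]
      exact Subgroup.relIndex_dvd_of_le_left M (le_inf le_sup_left hHM)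
    exact hd.trans h1
  · push Not at hcen
    obtain ⟨x, hx⟩ := exists_prime_orderOf_dvd_card' (G := G) p hpG
    have hxpi : PiSub (Large n) (Subgroup.zpowers x) := fun r hr hd => by
      rw [Nat.card_zpowers, hx] at hd
      rw [(Nat.prime_dvd_prime_iff_eq hr hp).1 hd]
      exact hpL
    obtain ⟨B, hxB, hB, hmax⟩ := Finite.exists_le_maximal
      (p := fun X : Subgroup G => PiSub (Large n) X) hxpi
    have hcent : ∀ b : G, b ∈ B → ∀ q : ℕ, Large n q → orderOf b = q → ∀ r : ℕ, Large n r →
        ¬ r ∣ (B.subgroupOf (Subgroup.centralizer {b})).index := by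
      intro b hb q hq hbq r hr
      set C := Subgroup.centralizer ({b} : Set G)
      have hne : C ≠ ⊤ := by
        intro e
        obtain ⟨g, hg⟩ := hcen q b hq hbq
        exact hg (Subgroup.mem_centralizer_singleton_iff.1 (show g ∈ C by rw [e]; trivial))
      have hlt : Nat.card C < N := by
        rw [← hN]
        exact lt_of_le_of_ne (Subgroup.card_le_card_group C) fun e =>
          hne (Subgroup.eq_top_of_card_eq C e)
      obtain ⟨K, hK⟩ := ih _ hlt C rfl (h.subgroup C)
      have hBC : B ≤ C := fun y hy => Subgroup.mem_centralizer_singleton_iff.2 (hab B hB y hy b hb)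
      obtain ⟨g, hg⟩ := le_conj_of_abelian _ C (Large n) K (B.subgroupOf C) rfl hK
        (fun r hr hd => hB r hr (by rwa [← Nat.card_congr (Subgroup.subgroupOfEquivOfLe hBC).toEquiv]))
        (fun y hy z hz => Subtype.ext (hab B hB y hy z hz))
      have hK' := hK.map_conj g
      set K' := K.map (MulAut.conj g).toMonoidHom
      have hle : B ≤ K'.map C.subtype := fun y hy =>
        ⟨⟨y, hBC hy⟩, hg (show (⟨y, hBC hy⟩ : C) ∈ B.subgroupOf C from hy), rfl⟩
      have heq : K'.map C.subtype ≤ B := hmax (fun r hr hd => hK'.pi r hr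
        (by rwa [← Nat.card_congr (K'.equivMapOfInjective _ C.subtype_injective).toEquiv] at hd)) hle
      have : K' ≤ B.subgroupOf C := fun y hy => heq ⟨y, hy, rfl⟩
      exact fun hd => hK'.idx r hr.1 hr (hd.trans (Subgroup.index_dvd_of_le this))
    have hfull : ∀ r : ℕ, r.Prime → r ∣ Nat.card B → ¬ r ∣ B.index := by
      intro r hr hrB
      haveI : Fact r.Prime := ⟨hr⟩
      have hrL : Large n r := hB r hr hrB
      obtain ⟨b, hb⟩ := exists_prime_orderOf_dvd_card' (G := B) r hrB
      have hbz : IsPGroup r (Subgroup.zpowers (b : G)) := IsPGroup.of_card (n := 1) (by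
        rw [Nat.card_zpowers, Subgroup.orderOf_coe, hb, pow_one])
      obtain ⟨R, hR⟩ := hbz.exists_le_sylow
      have hRpi : PiSub (Large n) (R : Subgroup G) := fun s hs hd => by
        obtain ⟨j, hj⟩ := R.2.exists_card_eq
        rw [hj] at hd
        rw [(Nat.prime_dvd_prime_iff_eq hs hr).1 (hs.dvd_of_dvd_pow hd)]
        exact hrL
      set C := Subgroup.centralizer ({(b : G)} : Set G)
      have hRC : (R : Subgroup G) ≤ C := fun y hy => Subgroup.mem_centralizer_singleton_iff.2
        (hab _ hRpi y hy b (hR (Subgroup.mem_zpowers _)))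
      have hBC : B ≤ C := fun y hy => Subgroup.mem_centralizer_singleton_iff.2 (hab B hB y hy b b.2)
      intro hd
      rw [← Subgroup.relIndex_mul_index hBC] at hd
      rcases hr.dvd_mul.1 hd with h1 | h1
      · exact hcent b b.2 r hrL (by rw [Subgroup.orderOf_coe, hb]) r hrL h1
      · exact R.not_dvd_index (h1.trans (Subgroup.index_dvd_of_le hRC))
    refine ⟨B, hab B hB, hB, fun r hr hπ hd => ?_⟩
    haveI : Fact r.Prime := ⟨hr⟩
    by_cases hrB : r ∣ Nat.card B
    · exact hfull r hr hrB hd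
    have hrG : r ∣ Nat.card G := hd.trans (Subgroup.index_dvd_card B)
    have hpB : p ∣ Nat.card B := by
      have := Subgroup.card_dvd_of_le hxB
      rwa [Nat.card_zpowers, hx] at this
    obtain ⟨g, hg⟩ := exists_pair h hpL hπ (fun e => hrB (e ▸ hpB)) hpG hrG
    obtain ⟨u, hu⟩ : ∃ u : G, orderOf u = p * r := ⟨g ^ (orderOf g / (p * r)), by
      obtain ⟨t, ht⟩ := hg
      rw [orderOf_pow, ht, Nat.mul_div_cancel_left t (Nat.mul_pos hp.pos hr.pos),
        Nat.gcd_eq_right (Dvd.intro_left _ rfl), Nat.mul_div_cancel]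
      rcases Nat.eq_zero_or_pos t with rfl | ht0
      · rw [mul_zero] at ht; exact absurd ht (orderOf_pos g).ne'
      · exact ht0⟩
    have hz : orderOf (u ^ r) = p := by
      rw [orderOf_pow, hu, Nat.gcd_eq_right (Dvd.intro_left _ rfl), Nat.mul_div_cancel _ hr.pos]
    obtain ⟨Q⟩ := (inferInstance : Nonempty (Sylow p B))
    have hQ : IsPGroup p ((Q : Subgroup B).map B.subtype) := Q.2.map _
    have hQidx : ¬ p ∣ ((Q : Subgroup B).map B.subtype).index := by
      rw [Subgroup.index_map_subtype]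
      intro hd'
      rcases hp.dvd_mul.1 hd' with h1 | h1
      · exact Q.not_dvd_index h1
      · exact hfull p hp hpB h1
    let Q' : Sylow p G := hQ.toSylow hQidx
    have hzp : IsPGroup p (Subgroup.zpowers (u ^ r)) := IsPGroup.of_card (n := 1) (by
      rw [Nat.card_zpowers, hz, pow_one])
    obtain ⟨R, hR⟩ := hzp.exists_le_sylow
    obtain ⟨k, hk⟩ := MulAction.exists_smul_eq G R Q'
    set b := k * u ^ r * k⁻¹
    have hbB : b ∈ B := by
      have h1 : k * u ^ r * k⁻¹ ∈ ((k • R : Sylow p G) : Subgroup G) := by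
        rw [Sylow.smul_def]
        exact Subgroup.smul_mem_pointwise_smul _ (MulAut.conj k) _ (hR (Subgroup.mem_zpowers _))
      rw [hk] at h1
      obtain ⟨y, -, hy⟩ := (show b ∈ (Q : Subgroup B).map B.subtype from h1)
      exact hy ▸ y.2
    have hbo : orderOf b = p := by
      show orderOf (k * u ^ r * k⁻¹) = p
      rw [← MulAut.conj_apply, MulEquiv.orderOf_eq, hz]
    set C := Subgroup.centralizer ({b} : Set G)
    have hrC : r ∣ Nat.card C := by
      have h1 : k * u ^ p * k⁻¹ ∈ C := Subgroup.mem_centralizer_singleton_iff.2 (by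
        show k * u ^ p * k⁻¹ * (k * u ^ r * k⁻¹) = k * u ^ r * k⁻¹ * (k * u ^ p * k⁻¹)
        calc k * u ^ p * k⁻¹ * (k * u ^ r * k⁻¹) = k * (u ^ p * u ^ r) * k⁻¹ := by group
          _ = k * (u ^ r * u ^ p) * k⁻¹ := by rw [← pow_add, ← pow_add, add_comm]
          _ = _ := by group)
      have h2 := Subgroup.orderOf_dvd_natCard _ h1
      rwa [← MulAut.conj_apply, MulEquiv.orderOf_eq, orderOf_pow, hu,
        Nat.gcd_eq_right (Dvd.intro _ rfl), Nat.mul_div_cancel_left _ hp.pos] at h2
    have hBC : B ≤ C := fun y hy => Subgroup.mem_centralizer_singleton_iff.2 (hab B hB y hy b hbB)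
    rw [← Subgroup.card_mul_index (B.subgroupOf C),
      Nat.card_congr (Subgroup.subgroupOfEquivOfLe hBC).toEquiv] at hrC
    rcases hr.dvd_mul.1 hrC with h1 | h1
    · exact hrB h1
    · exact hcent b hbB p hpL hbo r hπ h1

end CfsgLib.LinearGroups
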