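import Cfsg.Agent.Lib.Basic
import Mathlib.GroupTheory.Sylow
import Mathlib.GroupTheory.Schreier

/-!
# Abelian Hall subgroups: the theorem of Wielandt in the abelian case
-/

namespace CfsgLib.LinearGroups

set_option linter.unusedVariables false
set_option maxHeartbeats 1000000

universe u

/-- Every prime divisor of the order satisfies `π`. -/
def PiSub {G : Type u} [Group G] (π : ℕ → Prop) (H : Subgroup G) : Prop :=
  ∀ q : ℕ, q.Prime → q ∣ Nat.card H → π q

/-- An abelian Hall `π`-subgroup. -/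
structure IsAbHall {G : Type u} [Group G] (π : ℕ → Prop) (H : Subgroup G) : Prop where
  comm : ∀ x ∈ H, ∀ y ∈ H, x * y = y * x
  pi : PiSub π H
  idx : ∀ q : ℕ, q.Prime → π q → ¬ q ∣ H.index

variable {G : Type u} [Group G] {π : ℕ → Prop}

theorem IsAbHall.map_conj {H : Subgroup G} (h : IsAbHall π H) (g : G) :
    IsAbHall π (H.map (MulAut.conj g).toMonoidHom) where
  comm := by
    rintro _ ⟨x, hx, rfl⟩ _ ⟨y, hy, rfl⟩
    rw [← map_mul, ← map_mul, h.comm x hx y hy]
  pi q hq hd := h.pi q hq (by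
    rwa [← Nat.card_congr (H.equivMapOfInjective _ (MulAut.conj g).injective).toEquiv] at hd)
  idx q hq hπ := by
    rw [show (H.map (MulAut.conj g).toMonoidHom).index = H.index from
      Subgroup.index_map_equiv H (MulAut.conj g)]
    exact h.idx q hq hπ

theorem PiSub.mono {H K : Subgroup G} [Finite G] (h : PiSub π K) (hle : H ≤ K) : PiSub π H :=
  fun q hq hd => h q hq (hd.trans (Subgroup.card_dvd_of_le hle))

theorem IsAbHall.subgroupOf [Finite G] {H K : Subgroup G} (h : IsAbHall π H) (hHK : H ≤ K) :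
    IsAbHall π (H.subgroupOf K) where
  comm := fun x hx y hy => Subtype.ext (h.comm x hx y hy)
  pi q hq hd := h.pi q hq (by rwa [← Nat.card_congr (Subgroup.subgroupOfEquivOfLe hHK).toEquiv])
  idx q hq hπ hd := h.idx q hq hπ (hd.trans (Subgroup.relIndex_dvd_index_of_le hHK))

/-- An abelian `π`-subgroup lies in a conjugate of an abelian Hall `π`-subgroup. -/
theorem le_conj_of_abelian : ∀ (n : ℕ) (G : Type u) [Group G] [Finite G] (π : ℕ → Prop)
    (H B : Subgroup G), Nat.card G = n → IsAbHall π H → PiSub π B →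
    (∀ x ∈ B, ∀ y ∈ B, x * y = y * x) → ∃ g : G, B ≤ H.map (MulAut.conj g).toMonoidHom := by
  intro n
  induction n using Nat.strong_induction_on with
  | _ n ih =>
  intro G _ _ π H B hn hH hB hBc
  classical
  by_cases hB1 : B = ⊥
  · exact ⟨1, hB1 ▸ bot_le⟩
  obtain ⟨q, hq, hqd⟩ := Nat.exists_prime_and_dvd (Subgroup.one_lt_card_iff_ne_bot B |>.2 hB1).ne'
  haveI : Fact q.Prime := ⟨hq⟩
  obtain ⟨b, hb⟩ := exists_prime_orderOf_dvd_card' q hqd
  set C := Subgroup.zpowers (b : G)
  have hC : IsPGroup q C := IsPGroup.of_card (n := 1) (by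
    rw [Nat.card_zpowers, Subgroup.orderOf_coe, hb, pow_one])
  have hC1 : C ≠ ⊥ := by
    rw [Ne, Subgroup.zpowers_eq_bot]
    intro e
    rw [← Subgroup.orderOf_coe, e, orderOf_one] at hb
    exact hq.ne_one hb.symm
  obtain ⟨P, hP⟩ := hC.exists_le_sylow
  -- a Sylow subgroup of `H` is one of `G`
  obtain ⟨Q⟩ := (inferInstance : Nonempty (Sylow q H))
  have hQG : IsPGroup q ((Q : Subgroup H).map H.subtype) := Q.2.map _
  have hQidx : ¬ q ∣ ((Q : Subgroup H).map H.subtype).index := by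
    rw [Subgroup.index_map_subtype]
    intro hd
    rcases hq.dvd_mul.1 hd with h | h
    · exact Q.not_dvd_index h
    · exact hH.idx q hq (hB q hq hqd) h
  let Q' : Sylow q G := hQG.toSylow hQidx
  obtain ⟨g, hg⟩ := MulAction.exists_smul_eq G Q' P
  set H' := H.map (MulAut.conj g).toMonoidHom with hH'def
  have hH' : IsAbHall π H' := hH.map_conj g
  have hbH : (b : G) ∈ H' := by
    have h1 : (b : G) ∈ (P : Subgroup G) := hP (Subgroup.mem_zpowers _)
    rw [← hg, Sylow.smul_def] at h1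
    obtain ⟨y, hy, hye⟩ := h1
    obtain ⟨z, -, rfl⟩ := (show y ∈ ((Q : Subgroup H).map H.subtype) from hy)
    exact ⟨z, z.2, hye⟩
  suffices ∃ k : G, B ≤ H'.map (MulAut.conj k).toMonoidHom by
    obtain ⟨k, hk⟩ := this
    refine ⟨k * g, hk.trans ?_⟩
    rw [hH'def, Subgroup.map_map]
    apply le_of_eq
    congr 1
    ext x
    simp [mul_assoc]
  set K := Subgroup.centralizer ({(b : G)} : Set G) with hK
  have hHK : H' ≤ K := fun x hx =>
    Subgroup.mem_centralizer_singleton_iff.2 (hH'.comm x hx b hbH)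
  have hBK : B ≤ K := fun x hx => Subgroup.mem_centralizer_singleton_iff.2 (hBc x hx b b.2)
  by_cases hKtop : K = ⊤
  · -- `b` is central
    have hbc : C ≤ Subgroup.center G := Subgroup.zpowers_le.2 (Subgroup.mem_center_iff.2 fun x =>
      Subgroup.mem_centralizer_singleton_iff.1 (show x ∈ K by rw [hKtop]; trivial))
    haveI : C.Normal := ⟨fun x hx y => by
      rw [Subgroup.mem_center_iff.1 (hbc hx) y, mul_inv_cancel_right]; exact hx⟩
    set f := QuotientGroup.mk' C
    have hlt : Nat.card (G ⧸ C) < n := by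
      rw [← hn, ← Subgroup.index_eq_card, ← C.index_mul_card]
      exact lt_mul_of_one_lt_right (Nat.pos_of_ne_zero C.index_ne_zero_of_finite)
        (Subgroup.one_lt_card_iff_ne_bot C |>.2 hC1)
    have hH2 : IsAbHall π (H'.map f) :=
      { comm := by
          rintro _ ⟨x, hx, rfl⟩ _ ⟨y, hy, rfl⟩
          rw [← map_mul, ← map_mul, hH'.comm x hx y hy]
        pi := fun r hr hd => hH'.pi r hr (hd.trans (Subgroup.card_map_dvd (H := H') f))
        idx := fun r hr hπ hd => hH'.idx r hr hπ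
          (hd.trans (Subgroup.index_map_dvd (H := H') (QuotientGroup.mk'_surjective C))) }
    obtain ⟨k, hk⟩ := ih _ hlt (G ⧸ C) π (H'.map f) (B.map f) rfl hH2
      (fun r hr hd => hB r hr (hd.trans (Subgroup.card_map_dvd (H := B) f))) (by
        rintro _ ⟨x, hx, rfl⟩ _ ⟨y, hy, rfl⟩
        rw [← map_mul, ← map_mul, hBc x hx y hy])
    obtain ⟨k, rfl⟩ := QuotientGroup.mk_surjective k
    refine ⟨k, fun x hx => ?_⟩
    obtain ⟨_, ⟨y, hy, rfl⟩, hyx⟩ := hk ⟨x, hx, rfl⟩
    have h1 : (k * y * k⁻¹)⁻¹ * x ∈ C := QuotientGroup.eq.1 hyx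
    have hCH : C ≤ H'.map (MulAut.conj k).toMonoidHom := fun c hc =>
      ⟨c, Subgroup.zpowers_le.2 hbH hc, by
        show k * c * k⁻¹ = c
        rw [Subgroup.mem_center_iff.1 (hbc hc) k, mul_inv_cancel_right]⟩
    have h2 := (H'.map (MulAut.conj k).toMonoidHom).mul_mem
      (show k * y * k⁻¹ ∈ H'.map (MulAut.conj k).toMonoidHom from ⟨y, hy, rfl⟩) (hCH h1)
    rwa [mul_inv_cancel_left] at h2
  · have hlt : Nat.card K < n := by
      rw [← hn]
      exact lt_of_le_of_ne (Subgroup.card_le_card_group K) fun h =>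
        hKtop (Subgroup.eq_top_of_card_eq K h)
    obtain ⟨k, hk⟩ := ih _ hlt K π (H'.subgroupOf K) (B.subgroupOf K) rfl (hH'.subgroupOf hHK)
      (fun r hr hd => hB r hr (by rwa [← Nat.card_congr (Subgroup.subgroupOfEquivOfLe hBK).toEquiv]))
      (fun x hx y hy => Subtype.ext (hBc x hx y hy))
    refine ⟨k, fun x hx => ?_⟩
    obtain ⟨y, hy, hyx⟩ := hk (show (⟨x, hBK hx⟩ : K) ∈ B.subgroupOf K from hx)
    exact ⟨y, hy, congrArg Subtype.val hyx⟩

theorem IsAbHall.card_eq [Finite G] {H B : Subgroup G} (hH : IsAbHall π H) (hB : IsAbHall π B) :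
    Nat.card B = Nat.card H := by
  obtain ⟨g, hg⟩ := le_conj_of_abelian _ G π H B rfl hH hB.pi hB.comm
  obtain ⟨k, hk⟩ := le_conj_of_abelian _ G π B H rfl hB hH.pi hH.comm
  have h1 := Subgroup.card_le_of_le hg
  have h2 := Subgroup.card_le_of_le hk
  rw [← Nat.card_congr (H.equivMapOfInjective _ (MulAut.conj g).injective).toEquiv] at h1
  rw [← Nat.card_congr (B.equivMapOfInjective _ (MulAut.conj k).injective).toEquiv] at h2
  omega

theorem IsAbHall.exists_conj [Finite G] {H B : Subgroup G} (hH : IsAbHall π H) (hB : IsAbHall π B) :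
    ∃ g : G, B = H.map (MulAut.conj g).toMonoidHom := by
  obtain ⟨g, hg⟩ := le_conj_of_abelian _ G π H B rfl hH hB.pi hB.comm
  refine ⟨g, Subgroup.eq_of_le_of_card_ge hg (le_of_eq ?_)⟩
  rw [← Nat.card_congr (H.equivMapOfInjective _ (MulAut.conj g).injective).toEquiv,
    hH.card_eq hB]

end CfsgLib.LinearGroups
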