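import Cfsg.Agent.Lib.LinearGroups.Small
import Cfsg.Agent.Lib.LinearGroups.Blichfeldt
import Cfsg.Agent.Lib.CharTheory.Monomial
import Mathlib.GroupTheory.Nilpotent
import Mathlib.NumberTheory.PrimeCounting

/-!
# Jordan's theorem with the Frobenius–Schur bound
-/

namespace CfsgLib.LinearGroups

open Cfsg CfsgLib.CharTheory
open scoped commutatorElement

set_option linter.unusedVariables false
set_option linter.unusedSectionVars false
set_option maxHeartbeats 800000

universe u

variable {G : Type u} [Group G] {n : ℕ}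

/-- A nilpotent linear group of degree `n` has an abelian normal subgroup of index dividing `n!`. -/
theorem exists_abelian_factorial [Finite G] [Group.IsNilpotent G] (h : Faith n G) :
    ∃ K : Subgroup G, (∀ x ∈ K, ∀ y ∈ K, x * y = y * x) ∧ K.index ∣ n.factorial := by
  classical
  haveI := Fintype.ofFinite G
  obtain ⟨l, hl, hf, ds, hds, hsum, hdeg⟩ := h.constituents
  have hmono : ∀ i : Fin l.length, IsMonomialChar (l.get i) := fun i =>
    isMonomialChar_of_nilpotent (hl _ (List.get_mem l i))
  choose H lam hlam using hmono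
  let Φ : G →* ∀ i : Fin l.length, Equiv.Perm (G ⧸ H i) :=
    Pi.monoidHom fun i => MulAction.toPermHom G (G ⧸ H i)
  refine ⟨Φ.ker, ?_, ?_⟩
  · intro a ha b hb
    refine commutatorElement_eq_one_iff_mul_comm.1 (hf _ fun θ hθ => ?_)
    obtain ⟨i, rfl⟩ := List.get_of_mem hθ
    have hcore : ∀ c ∈ Φ.ker, ∀ y : G, y⁻¹ * c * y ∈ H i := by
      intro c hc y
      have h1 : MulAction.toPermHom G (G ⧸ H i) c = 1 := congrFun (MonoidHom.mem_ker.1 hc) i
      have h2 : ((c * y : G) : G ⧸ H i) = (y : G ⧸ H i) := by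
        have := congrArg (fun e : Equiv.Perm (G ⧸ H i) => e (y : G ⧸ H i)) h1
        simpa using this
      have h3 := QuotientGroup.eq.1 h2.symm
      rwa [← mul_assoc] at h3
    have hval : ∀ c : G, (∀ y : G, ∃ hm : y⁻¹ * c * y ∈ H i, lam i ⟨_, hm⟩ = 1) →
        indFun (H i) (fun x => (lam i x : ℂ)) c = indFun (H i) (fun x => (lam i x : ℂ)) 1 := by
      intro c hc
      unfold indFun
      congr 1
      refine Finset.sum_congr rfl fun y _ => ?_
      obtain ⟨hm, hm1⟩ := hc y
      have h1 : y⁻¹ * 1 * y ∈ H i := by simp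
      rw [extendByZero_of_mem _ _ hm, extendByZero_of_mem _ _ h1, hm1,
        show (⟨y⁻¹ * 1 * y, h1⟩ : H i) = 1 from Subtype.ext (by simp), map_one]
    rw [hlam i]
    refine hval _ fun y => ?_
    have ha' := hcore a ha y
    have hb' := hcore b hb y
    have e : y⁻¹ * ⁅a, b⁆ * y = ((⁅(⟨_, ha'⟩ : H i), ⟨_, hb'⟩⁆ : H i) : G) := by
      simp only [commutatorElement_def, Subgroup.coe_mul, Subgroup.coe_inv]
      group
    refine ⟨e ▸ Subtype.coe_prop _, ?_⟩
    rw [show (⟨y⁻¹ * ⁅a, b⁆ * y, _⟩ : H i) = ⁅(⟨_, ha'⟩ : H i), ⟨_, hb'⟩⁆ from Subtype.ext e,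
      map_commutatorElement, commutatorElement_eq_one_iff_mul_comm.2 (mul_comm _ _)]
  · rw [Subgroup.index_ker]
    refine (Subgroup.card_subgroup_dvd_card Φ.range).trans ?_
    rw [Nat.card_pi]
    have hcard : ∀ i, Nat.card (Equiv.Perm (G ⧸ H i)) = (Nat.card (G ⧸ H i)).factorial := fun i => by
      rw [Nat.card_eq_fintype_card, Fintype.card_perm, Nat.card_eq_fintype_card]
    rw [Finset.prod_congr rfl fun i _ => hcard i]
    refine (Nat.prod_factorial_dvd_factorial_sum _ _).trans (Nat.factorial_dvd_factorial ?_)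
    have hidx : ∀ i : Fin l.length, l.get i 1 = (Nat.card (G ⧸ H i) : ℂ) := fun i => by
      rw [hlam i, indFun_apply_one, ← Subgroup.index_eq_card]
      simp
    have e : ((∑ i, Nat.card (G ⧸ H i) : ℕ) : ℂ) = (ds.sum : ℂ) := by
      rw [Nat.cast_sum, Nat.cast_list_sum, ← hds, Finset.sum_congr rfl fun i _ => (hidx i).symm,
        ← List.sum_ofFn]
      congr 1
      refine List.ext_getElem (by simp) fun k h1 h2 => ?_
      simp
    rw [Nat.cast_inj] at e
    rw [e]
    exact hsum

/-- The image of a subgroup in a quotient. -/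
theorem card_map_mk (A X : Subgroup G) [A.Normal] :
    Nat.card (X.map (QuotientGroup.mk' A)) = (A.subgroupOf X).index := by
  rw [← Subgroup.relIndex_ker, QuotientGroup.ker_mk']
  rfl

theorem index_le [Finite G] (h : Faith n G) (A : Subgroup G) [A.Normal]
    (hA : ∀ X : Subgroup G, (∀ x ∈ X, ∀ y ∈ X, x * y = y * x) →
      (A.subgroupOf X).index ≤ 12 ^ n) :
    A.index ≤ n.factorial * 12 ^ (n * (Nat.primeCounting (n + 1) + 1)) := by
  classical
  set m := A.index with hm
  have hm0 : m ≠ 0 := A.index_ne_zero_of_finite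
  have hmq : Nat.card (G ⧸ A) = m := (Subgroup.index_eq_card A).symm
  have hsmall : ∀ q : ℕ, q.Prime →
      q ^ m.factorization q ≤ q ^ n.factorial.factorization q * 12 ^ n := by
    intro q hq
    haveI : Fact q.Prime := ⟨hq⟩
    obtain ⟨P⟩ := (inferInstance : Nonempty (Sylow q G))
    haveI : Group.IsNilpotent (P : Subgroup G) := P.2.isNilpotent
    obtain ⟨K, hK, hKi⟩ := exists_abelian_factorial (h.subgroup (P : Subgroup G))
    set f := QuotientGroup.mk' A
    have hP : Nat.card ((P : Subgroup G).map f) = q ^ m.factorization q := by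
      have := (P.mapSurjective (QuotientGroup.mk'_surjective A)).card_eq_multiplicity
      rw [hmq] at this
      exact this
    set K' := K.map (P : Subgroup G).subtype
    have hK' : Nat.card (K'.map f) ≤ 12 ^ n := by
      rw [card_map_mk]
      refine hA K' ?_
      rintro _ ⟨x, hx, rfl⟩ _ ⟨y, hy, rfl⟩
      rw [← map_mul, ← map_mul, hK x hx y hy]
    have hdiv : Nat.card ((P : Subgroup G).map f) ≤ K.index * Nat.card (K'.map f) := by
      let g : (P : Subgroup G) →* G ⧸ A := f.comp (P : Subgroup G).subtype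
      have e1 : (P : Subgroup G).map f = g.range := by
        rw [MonoidHom.range_eq_map, ← Subgroup.map_map, ← MonoidHom.range_eq_map,
          Subgroup.range_subtype]
      have e2 : K'.map f = K.map g := Subgroup.map_map K f _
      rw [e1, e2]
      have h1 : (K.map g.rangeRestrict).index ∣ K.index :=
        Subgroup.index_map_dvd (H := K) g.rangeRestrict_surjective
      have h2 := Subgroup.card_mul_index (K.map g.rangeRestrict)
      have h3 : Nat.card (K.map g.rangeRestrict) = Nat.card (K.map g) := by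
        rw [Nat.card_congr ((K.map g.rangeRestrict).equivMapOfInjective _
          g.range.subtype_injective).toEquiv, Subgroup.map_map]
        rfl
      rw [← h2, h3, mul_comm]
      exact Nat.mul_le_mul_right _ (Nat.le_of_dvd (Nat.pos_of_ne_zero K.index_ne_zero_of_finite) h1)
    rw [hP] at hdiv
    refine hdiv.trans (Nat.mul_le_mul ?_ hK')
    obtain ⟨j, hj⟩ := P.2.index K
    rw [hj] at hKi ⊢
    exact Nat.pow_le_pow_right hq.pos
      ((hq.pow_dvd_iff_le_factorization n.factorial_ne_zero).1 hKi)
  set S := m.primeFactors.filter fun q => q ≤ n + 1 with hS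
  set L := m.primeFactors.filter fun q => ¬ q ≤ n + 1 with hL
  have hlarge : ∏ q ∈ L, q ^ m.factorization q ≤ 12 ^ n := by
    obtain ⟨H, hH⟩ := exists_abHall _ G rfl h
    set f := QuotientGroup.mk' A
    have hH' : Nat.card (H.map f) ≤ 12 ^ n := by
      rw [card_map_mk]; exact hA H hH.comm
    refine le_trans (Nat.le_of_dvd Nat.card_pos ?_) hH'
    have hmul := Subgroup.card_mul_index (H.map f)
    rw [hmq] at hmul
    refine Finset.prod_dvd_of_isRelPrime ?_ fun q hq => ?_
    · intro a ha b hb hne
      rw [Finset.mem_coe, hL, Finset.mem_filter] at ha hb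
      exact Nat.coprime_iff_isRelPrime.1 (((Nat.coprime_primes (Nat.prime_of_mem_primeFactors ha.1)
        (Nat.prime_of_mem_primeFactors hb.1)).2 hne).pow _ _)
    · rw [hL, Finset.mem_filter] at hq
      have hqp := Nat.prime_of_mem_primeFactors hq.1
      refine Nat.Coprime.dvd_of_dvd_mul_right (n := (H.map f).index) ?_
        (by rw [hmul]; exact Nat.ordProj_dvd m q)
      refine ((hqp.coprime_iff_not_dvd).2 fun hd => ?_).pow_left _
      exact hH.idx q hqp ⟨hqp, Nat.lt_of_not_le hq.2⟩
        (hd.trans (Subgroup.index_map_dvd (H := H) (QuotientGroup.mk'_surjective A)))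
  have hfact : m = (∏ q ∈ S, q ^ m.factorization q) * ∏ q ∈ L, q ^ m.factorization q := by
    rw [hS, hL, Finset.prod_filter_mul_prod_filter_not, ← Nat.prod_factorization_eq_prod_primeFactors]
    exact (Nat.prod_factorization_pow_eq_self hm0).symm
  have hSn : ∏ q ∈ S, q ^ n.factorial.factorization q ≤ n.factorial := by
    refine Nat.le_of_dvd n.factorial_pos (Finset.prod_dvd_of_isRelPrime ?_ fun q _ => Nat.ordProj_dvd _ q)
    intro a ha b hb hne
    rw [Finset.mem_coe, hS, Finset.mem_filter] at ha hb
    exact Nat.coprime_iff_isRelPrime.1 (((Nat.coprime_primes (Nat.prime_of_mem_primeFactors ha.1)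
      (Nat.prime_of_mem_primeFactors hb.1)).2 hne).pow _ _)
  have hScard : S.card ≤ Nat.primeCounting (n + 1) := by
    show S.card ≤ Nat.count Nat.Prime (n + 1 + 1)
    rw [Nat.count_eq_card_filter_range]
    refine Finset.card_le_card fun q hq => ?_
    rw [hS, Finset.mem_filter] at hq
    exact Finset.mem_filter.2 ⟨Finset.mem_range.2 (Nat.lt_succ_of_le hq.2),
      Nat.prime_of_mem_primeFactors hq.1⟩
  calc m = _ := hfact
    _ ≤ (∏ q ∈ S, (q ^ n.factorial.factorization q * 12 ^ n)) * 12 ^ n := by
        refine Nat.mul_le_mul (Finset.prod_le_prod' fun q hq => ?_) hlarge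
        rw [hS, Finset.mem_filter] at hq
        exact hsmall q (Nat.prime_of_mem_primeFactors hq.1)
    _ = (∏ q ∈ S, q ^ n.factorial.factorization q) * 12 ^ (n * (S.card + 1)) := by
        rw [Finset.prod_mul_distrib, Finset.prod_const, mul_assoc, ← pow_mul, ← pow_add,
          Nat.mul_succ]
    _ ≤ n.factorial * 12 ^ (n * (Nat.primeCounting (n + 1) + 1)) :=
        Nat.mul_le_mul hSn (Nat.pow_le_pow_right (by norm_num) (Nat.mul_le_mul_left n (by omega)))

end CfsgLib.LinearGroups
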