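import Mathlib.Analysis.InnerProductSpace.Projection.FiniteDimensional
import Mathlib.Analysis.InnerProductSpace.PiL2
import Mathlib.LinearAlgebra.Eigenspace.Pi
import Mathlib.LinearAlgebra.Eigenspace.Semisimple
import Mathlib.LinearAlgebra.Eigenspace.Triangularizable
import Mathlib.FieldTheory.Separable
import Mathlib.Analysis.SpecialFunctions.Complex.Arg
import Mathlib.GroupTheory.OrderOfElement
import Mathlib.GroupTheory.Index
import Mathlib.Analysis.Complex.Polynomial.Basic
import Mathlib.RepresentationTheory.Basic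

/-!
# Near-identity elements of finite unitary groups (Frobenius–Schur)
-/

namespace CfsgLib.LinearGroups

open scoped InnerProductSpace ComplexConjugate

set_option maxHeartbeats 400000
set_option linter.unusedVariables false

variable {G : Type*} [Group G] [Finite G]
variable {U : Type*} [NormedAddCommGroup U] [InnerProductSpace ℂ U] [FiniteDimensional ℂ U]

/-- An isometric action. -/
def IsIsometric (T : G →* Module.End ℂ U) : Prop := ∀ (g : G) (v : U), ‖T g v‖ = ‖v‖

/-- The centre of the disc of small elements. -/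
noncomputable def mu : ℝ := Real.sqrt 3 / 2

/-- `g` is small: `T g` lies within distance less than one half of the scalar `mu`. -/
def IsSmall (T : G →* Module.End ℂ U) (g : G) : Prop :=
  ∃ c : ℝ, 0 ≤ c ∧ c < 1 / 2 ∧ ∀ v : U, ‖T g v - (mu : ℂ) • v‖ ≤ c * ‖v‖

variable {T : G →* Module.End ℂ U}

theorem inner_map (hT : IsIsometric T) (g : G) (v w : U) : ⟪T g v, T g w⟫_ℂ = ⟪v, w⟫_ℂ :=
  LinearIsometry.inner_map_map ⟨T g, hT g⟩ v w

theorem map_mul_apply (T : G →* Module.End ℂ U) (a b : G) (v : U) : T (a * b) v = T a (T b v) := by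
  rw [map_mul]; rfl

theorem map_inv_apply_cancel (T : G →* Module.End ℂ U) (a : G) (v : U) : T a (T a⁻¹ v) = v := by
  rw [← map_mul_apply, mul_inv_cancel, map_one]; rfl

theorem maxGenEigenspace_eq (T : G →* Module.End ℂ U) (g : G) (c : ℂ) :
    (T g).maxGenEigenspace c = (T g).eigenspace c := by
  refine Module.End.IsFinitelySemisimple.maxGenEigenspace_eq_eigenspace ?_ c
  refine Module.End.IsSemisimple.isFinitelySemisimple
    (Module.End.isSemisimple_of_squarefree_aeval_eq_zero
      (p := Polynomial.X ^ orderOf g - Polynomial.C (1 : ℂ)) ?_ ?_)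
  · exact (Polynomial.separable_X_pow_sub_C (1 : ℂ)
      (Nat.cast_ne_zero.2 (orderOf_pos g).ne') one_ne_zero).squarefree
  · rw [map_sub, Polynomial.aeval_X_pow, Polynomial.aeval_C, ← map_pow, pow_orderOf_eq_one,
      map_one, map_one, sub_self]

/-- Common eigenspaces of a commuting set of elements span everything. -/
theorem iSup_joint (T : G →* Module.End ℂ U) (H : Set G) (hH : ∀ a ∈ H, ∀ b ∈ H, a * b = b * a) :
    ⨆ χ : H → ℂ, ⨅ h : H, (T h).eigenspace (χ h) = ⊤ := by
  have := Module.End.iSup_iInf_maxGenEigenspace_eq_top_of_iSup_maxGenEigenspace_eq_top_of_commute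
    (fun h : H => T (h : G)) (fun a b _ => by
      show T (a : G) * T (b : G) = T (b : G) * T (a : G)
      rw [← map_mul, ← map_mul, hH a a.2 b b.2]) (fun h => Module.End.iSup_maxGenEigenspace_eq_top _)
  simpa only [maxGenEigenspace_eq] using this

theorem norm_eigen (hT : IsIsometric T) {g : G} {c : ℂ} {v : U} (hv : v ∈ (T g).eigenspace c)
    (hv0 : v ≠ 0) : ‖c‖ = 1 := by
  have h := hT g v
  rw [Module.End.mem_eigenspace_iff.1 hv, norm_smul] at h
  exact (mul_eq_right₀ (norm_ne_zero_iff.2 hv0)).1 h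

theorem inner_eq_zero (hT : IsIsometric T) {g : G} {c d : ℂ} {v w : U}
    (hv : v ∈ (T g).eigenspace c) (hw : w ∈ (T g).eigenspace d) (hne : c ≠ d) : ⟪v, w⟫_ℂ = 0 := by
  by_cases hv0 : v = 0
  · simp [hv0]
  have hc := norm_eigen hT hv hv0
  have h := inner_map hT g v w
  rw [Module.End.mem_eigenspace_iff.1 hv, Module.End.mem_eigenspace_iff.1 hw, inner_smul_left,
    inner_smul_right, ← mul_assoc] at h
  by_contra h0
  have h1 : conj c * d = 1 := (mul_eq_right₀ h0).1 h
  apply hne
  have h2 : c * conj c = 1 := by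
    rw [Complex.mul_conj, Complex.normSq_eq_norm_sq, hc]; norm_num
  calc c = c * (conj c * d) := by rw [h1, mul_one]
    _ = d := by rw [← mul_assoc, h2, one_mul]

theorem joint_orthogonal (hT : IsIsometric T) (H : Set G) :
    OrthogonalFamily ℂ (fun χ : H → ℂ => (⨅ h : H, (T h).eigenspace (χ h) : Submodule ℂ U))
      fun χ => (⨅ h : H, (T h).eigenspace (χ h) : Submodule ℂ U).subtypeₗᵢ := by
  intro χ ψ hne v w
  obtain ⟨h, hh⟩ := Function.ne_iff.1 hne
  exact inner_eq_zero hT ((Submodule.mem_iInf _).1 v.2 h) ((Submodule.mem_iInf _).1 w.2 h) hh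

theorem finite_joint (hT : IsIsometric T) (H : Set G) :
    ∃ s : Finset (H → ℂ), s.card ≤ Module.finrank ℂ U ∧
      ∀ χ, (⨅ h : H, (T h).eigenspace (χ h) : Submodule ℂ U) ≠ ⊥ → χ ∈ s := by
  classical
  have hind := (joint_orthogonal hT H).independent
  have hfin : {χ : H → ℂ | (⨅ h : H, (T h).eigenspace (χ h) : Submodule ℂ U) ≠ ⊥}.Finite :=
    WellFoundedGT.finite_ne_bot_of_iSupIndep hind
  refine ⟨hfin.toFinset, ?_, fun χ hχ => hfin.mem_toFinset.2 hχ⟩
  have : Fintype {χ : H → ℂ // (⨅ h : H, (T h).eigenspace (χ h) : Submodule ℂ U) ≠ ⊥} :=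
    hfin.fintype
  have h := hind.subtype_ne_bot_le_finrank
  refine le_trans (le_of_eq ?_) h
  exact (Fintype.card_of_subtype (p := fun χ : H → ℂ =>
    (⨅ h : H, (T h).eigenspace (χ h) : Submodule ℂ U) ≠ ⊥) hfin.toFinset
    fun χ => hfin.mem_toFinset).symm

theorem span_joint (hT : IsIsometric T) (H : Set G) (hH : ∀ a ∈ H, ∀ b ∈ H, a * b = b * a) (v : U) :
    ∃ (s : Finset (H → ℂ)) (f : ∀ χ : H → ℂ, (⨅ h : H, (T h).eigenspace (χ h) : Submodule ℂ U)),
      v = ∑ χ ∈ s, (f χ : U) ∧ ∀ χ, f χ ≠ 0 →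
        (⨅ h : H, (T h).eigenspace (χ h) : Submodule ℂ U) ≠ ⊥ := by
  classical
  have hv : v ∈ ⨆ χ : H → ℂ, (⨅ h : H, (T h).eigenspace (χ h) : Submodule ℂ U) := by
    rw [iSup_joint T H hH]; trivial
  obtain ⟨g, hg, hgv⟩ := (Submodule.mem_iSup_iff_exists_finsupp _ v).1 hv
  refine ⟨g.support, fun χ => ⟨g χ, hg χ⟩, hgv.symm, fun χ hχ e => hχ ?_⟩
  apply Subtype.ext
  have := hg χ
  rw [e, Submodule.mem_bot] at this
  exact this

theorem isSmall_of_joint (hT : IsIsometric T) (H : Set G) (hH : ∀ a ∈ H, ∀ b ∈ H, a * b = b * a)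
    (a : H) (hclose : ∀ χ : H → ℂ, (⨅ h : H, (T h).eigenspace (χ h) : Submodule ℂ U) ≠ ⊥ →
      ‖χ a - (mu : ℂ)‖ < 1 / 2) : IsSmall T (a : G) := by
  classical
  obtain ⟨s, -, hs⟩ := finite_joint hT H
  set s' := s.filter fun χ => (⨅ h : H, (T h).eigenspace (χ h) : Submodule ℂ U) ≠ ⊥
  let c : NNReal := s'.sup fun χ => ‖χ a - (mu : ℂ)‖₊
  have hc : (c : ℝ) < 1 / 2 := by
    have : c < (⟨1 / 2, by norm_num⟩ : NNReal) := by
      refine (Finset.sup_lt_iff (show (⊥ : NNReal) < _ from ?_)).2 fun χ hχ => ?_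
      · show (0 : ℝ) < 1 / 2
        norm_num
      · exact hclose χ (Finset.mem_filter.1 hχ).2
    exact this
  refine ⟨c, c.2, hc, fun v => ?_⟩
  obtain ⟨t, f, hv, hf⟩ := span_joint hT H hH v
  have heig : ∀ χ, T (a : G) (f χ : U) = χ a • (f χ : U) := fun χ =>
    Module.End.mem_eigenspace_iff.1 ((Submodule.mem_iInf _).1 (f χ).2 a)
  have h1 : T (a : G) v - (mu : ℂ) • v =
      ∑ χ ∈ t, (((χ a - (mu : ℂ)) • f χ : (⨅ h : H, (T h).eigenspace (χ h) : Submodule ℂ U)) : U) := by
    rw [hv, map_sum, Finset.smul_sum, ← Finset.sum_sub_distrib]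
    exact Finset.sum_congr rfl fun χ _ => by rw [heig, Submodule.coe_smul, sub_smul]
  have e1 := (joint_orthogonal hT H).norm_sum (fun χ => (χ a - (mu : ℂ)) • f χ) t
  have e2 := (joint_orthogonal hT H).norm_sum f t
  simp only [Submodule.coe_subtypeₗᵢ, Submodule.coe_subtype] at e1 e2
  rw [← h1] at e1
  rw [← hv] at e2
  have hle : ‖T (a : G) v - (mu : ℂ) • v‖ ^ 2 ≤ ((c : ℝ) * ‖v‖) ^ 2 := by
    rw [mul_pow, e1, e2, Finset.mul_sum]
    refine Finset.sum_le_sum fun χ hχ => ?_
    rw [norm_smul, mul_pow]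
    by_cases h0 : f χ = 0
    · simp [h0]
    gcongr
    exact Finset.le_sup (f := fun χ : H → ℂ => ‖χ a - (mu : ℂ)‖₊)
      (Finset.mem_filter.2 ⟨hs χ (hf χ h0), hf χ h0⟩)
  exact le_of_pow_le_pow_left₀ (by norm_num) (mul_nonneg c.2 (norm_nonneg v)) hle

theorem mu_pos : 0 < mu := by unfold mu; positivity

theorem mu_sq : mu * mu = 3 / 4 := by
  unfold mu
  rw [div_mul_div_comm, Real.mul_self_sqrt (by norm_num)]
  norm_num

theorem one_sub_mu_lt : 1 - mu < 1 / 5 := by
  have h1 : (17 / 10 : ℝ) < Real.sqrt 3 := by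
    rw [Real.lt_sqrt (by norm_num)]; norm_num
  unfold mu
  linarith

theorem mu_le_one : mu ≤ 1 := by nlinarith [mu_sq, mu_pos]

theorem dist_one_of_small (hT : IsIsometric T) {g : G} (hg : IsSmall T g) :
    ∃ d : ℝ, d < 1 ∧ 0 ≤ d ∧ ∀ v, ‖T g v - v‖ ≤ d * ‖v‖ := by
  obtain ⟨c, hc0, hc, hcv⟩ := hg
  refine ⟨c + (1 - mu), by linarith [one_sub_mu_lt], by linarith [mu_le_one], fun v => ?_⟩
  have e : T g v - v = (T g v - (mu : ℂ) • v) + ((mu : ℂ) • v - v) := by abel
  rw [e, add_mul]
  refine (norm_add_le _ _).trans (add_le_add (hcv v) ?_)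
  rw [show (mu : ℂ) • v - v = (((mu - 1 : ℝ)) : ℂ) • v by push_cast; rw [sub_smul, one_smul],
    norm_smul, Complex.norm_real, Real.norm_eq_abs, abs_sub_comm, abs_of_nonneg (by linarith [mu_le_one])]

/-- If `a` commutes with `[a, y]` and `y` is within distance less than `√2` of `1`, then `a` and
`y` commute. -/
theorem commute_of_commute_comm (hT : IsIsometric T) (hinj : Function.Injective T) {a y : G}
    (hc : a * (a * y * a⁻¹ * y⁻¹) = (a * y * a⁻¹ * y⁻¹) * a) {d : ℝ} (hd : d ≤ 1) (hd0 : 0 ≤ d)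
    (hy : ∀ v, ‖T y v - v‖ ≤ d * ‖v‖) : a * y = y * a := by
  have hcomm : a * (y * a * y⁻¹) = (y * a * y⁻¹) * a := by
    set c := a * y * a⁻¹ * y⁻¹ with hcdef
    have e : y * a * y⁻¹ = c⁻¹ * a := by rw [hcdef]; group
    rw [e]
    have h1 : a * c⁻¹ = c⁻¹ * a := (Commute.inv_right (show Commute a c from hc)).eq
    rw [← mul_assoc, h1]
  apply hinj
  have hspan := iSup_joint T ({a} : Set G) (by rintro _ rfl _ rfl; rfl)
  have key : ∀ (l : ℂ) (v : U), T a v = l • v → T a (T y v) = l • T y v := by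
    intro l v hv
    set W := (T a).eigenspace l with hW
    set a' := y * a * y⁻¹ with ha'
    obtain ⟨u, hu, u', hu', e⟩ := W.exists_add_mem_mem_orthogonal (T y v)
    have hmem : ∀ x ∈ W, T a' x ∈ W := fun x hx => by
      rw [hW, Module.End.mem_eigenspace_iff] at hx ⊢
      rw [← map_mul_apply, hcomm, map_mul_apply, hx, map_smul]
    have hperp : T a' u' ∈ Wᗮ := by
      rw [Submodule.mem_orthogonal]
      intro x hx
      have hsurj : ∃ x0 ∈ W, T a' x0 = x := by
        refine ⟨T a'⁻¹ x, ?_, map_inv_apply_cancel T a' x⟩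
        have h1 : a * a'⁻¹ = a'⁻¹ * a := (Commute.inv_right (show Commute a a' from hcomm)).eq
        rw [hW, Module.End.mem_eigenspace_iff] at hx ⊢
        rw [← map_mul_apply, h1, map_mul_apply, hx, map_smul]
      obtain ⟨x0, hx0, rfl⟩ := hsurj
      rw [inner_map hT]
      exact Submodule.inner_right_of_mem_orthogonal hx0 hu'
    have h1 : T a' (T y v) = l • T y v := by
      rw [← map_mul_apply, ha', inv_mul_cancel_right, map_mul_apply, hv, map_smul]
    rw [e, map_add, smul_add] at h1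
    have hd1 : T a' u - l • u = l • u' - T a' u' := by
      rw [sub_eq_sub_iff_add_eq_add, h1, add_comm]
    have hz : T a' u - l • u = 0 := by
      have hW1 : T a' u - l • u ∈ W := W.sub_mem (hmem u hu) (W.smul_mem l hu)
      have hW2 : T a' u - l • u ∈ Wᗮ := by
        rw [hd1]; exact Wᗮ.sub_mem (Wᗮ.smul_mem l hu') hperp
      exact (Submodule.disjoint_def.1 W.orthogonal_disjoint) _ hW1 hW2
    have hu'e : T a' u' = l • u' := by
      rw [hz] at hd1; exact (sub_eq_zero.1 hd1.symm).symm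
    set v' := T y⁻¹ u' with hv'
    have hv'W : v' ∈ W := by
      rw [hW, Module.End.mem_eigenspace_iff, hv', ← map_mul_apply,
        show a * y⁻¹ = y⁻¹ * a' by rw [ha']; group, map_mul_apply, hu'e, map_smul]
    have h0 : ⟪v', u'⟫_ℂ = 0 := Submodule.inner_right_of_mem_orthogonal hv'W hu'
    have hn : ‖u'‖ = ‖v'‖ := (hT y⁻¹ u').symm
    have hb := hy v'
    rw [show T y v' = u' by rw [hv', map_inv_apply_cancel]] at hb
    have hsq : ‖u' - v'‖ ^ 2 = 2 * ‖v'‖ ^ 2 := by
      have h0' : ⟪u', v'⟫_ℂ = 0 := by rw [← inner_conj_symm, h0, map_zero]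
      rw [norm_sub_sq (𝕜 := ℂ), h0', hn]
      simp
      ring
    have : ‖v'‖ = 0 := by
      have h2 : ‖u' - v'‖ ≤ ‖v'‖ := hb.trans (mul_le_of_le_one_left (norm_nonneg _) hd)
      have h3 := pow_le_pow_left₀ (norm_nonneg _) h2 2
      rw [hsq] at h3
      nlinarith [norm_nonneg v', sq_nonneg ‖v'‖]
    rw [this, norm_eq_zero] at hn
    rw [e, hn, add_zero]
    exact Module.End.mem_eigenspace_iff.1 hu
  apply LinearMap.ext
  intro v
  have hv : v ∈ ⨆ χ : ({a} : Set G) → ℂ, ⨅ h : ({a} : Set G), (T h).eigenspace (χ h) := by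
    rw [hspan]; trivial
  refine Submodule.iSup_induction _ (motive := fun v => T (a * y) v = T (y * a) v) hv ?_ ?_ ?_
  · intro χ x hx
    have hx' := Module.End.mem_eigenspace_iff.1 ((Submodule.mem_iInf _).1 hx ⟨a, rfl⟩)
    rw [map_mul_apply, map_mul_apply, key _ x hx', hx', map_smul]
  · simp
  · intro x z hx hz
    rw [map_add, map_add, hx, hz]

/-- Small elements commute. -/
theorem commute_of_small (hT : IsIsometric T) (hinj : Function.Injective T) {a b : G}
    (ha : IsSmall T a) (hb : IsSmall T b) : a * b = b * a := by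
  classical
  haveI := Fintype.ofFinite G
  obtain ⟨c, hc0, hc, hca⟩ := ha
  obtain ⟨d, hd1, hd0, hd⟩ := dist_one_of_small hT hb
  let f : G → G := fun y => a * y * a⁻¹ * y⁻¹
  have hstep : ∀ (y : G) (e : ℝ), 0 ≤ e → (∀ v, ‖T y v - v‖ ≤ e * ‖v‖) →
      ∀ v, ‖T (f y) v - v‖ ≤ (2 * c * e) * ‖v‖ := by
    intro y e he hye v
    set u := T (a⁻¹ * y⁻¹) v with hu
    have hv : v = T y (T a u) := by
      rw [hu, ← map_mul_apply, ← map_mul_apply]
      rw [show y * a * (a⁻¹ * y⁻¹) = 1 by group, map_one]; rfl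
    have h1 : T (f y) v = T a (T y u) := by
      rw [hu, ← map_mul_apply, ← map_mul_apply]
      congr 2
      simp only [f]; group
    rw [h1, hv, hT y (T a u), hT a u]
    have e1 : T a (T y u) - T y (T a u) =
        (T a (T y u - u) - (mu : ℂ) • (T y u - u)) -
          (T y (T a u - (mu : ℂ) • u) - (T a u - (mu : ℂ) • u)) := by
      simp only [map_sub, map_smul, smul_sub]; abel
    rw [e1]
    refine (norm_sub_le _ _).trans ?_
    have h2 : ‖T a (T y u - u) - (mu : ℂ) • (T y u - u)‖ ≤ c * (e * ‖u‖) :=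
      (hca _).trans (mul_le_mul_of_nonneg_left (hye u) hc0)
    have h3 : ‖T y (T a u - (mu : ℂ) • u) - (T a u - (mu : ℂ) • u)‖ ≤ e * (c * ‖u‖) :=
      (hye _).trans (mul_le_mul_of_nonneg_left (hca u) he)
    linarith
  have hiter : ∀ k : ℕ, ∀ v, ‖T (f^[k] b) v - v‖ ≤ ((2 * c) ^ k * d) * ‖v‖ := by
    intro k
    induction k with
    | zero => simpa using hd
    | succ k ih =>
      intro v
      rw [Function.iterate_succ_apply']
      have := hstep _ _ (by positivity) ih v
      calc _ ≤ 2 * c * ((2 * c) ^ k * d) * ‖v‖ := this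
        _ = _ := by ring
  -- some iterate is trivial
  have hex : ∃ k, f^[k] b = 1 := by
    by_contra hne
    push Not at hne
    have hpos : ∀ y : G, y ≠ 1 → ∃ v : U, ‖v‖ ≤ 1 ∧ 0 < ‖T y v - v‖ := by
      intro y hy
      by_contra hh
      push Not at hh
      refine hy (hinj (LinearMap.ext fun v => ?_))
      rw [map_one]
      by_cases hv : v = 0
      · simp [hv]
      have := hh (((‖v‖⁻¹ : ℝ) : ℂ) • v) (by
        rw [norm_smul, Complex.norm_real, norm_inv, norm_norm, inv_mul_cancel₀ (norm_ne_zero_iff.2 hv)])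
      rw [map_smul, ← smul_sub, norm_smul] at this
      rcases mul_eq_zero.1 (le_antisymm this (mul_nonneg (norm_nonneg _) (norm_nonneg _))) with h | h
      · simp [hv] at h
      · exact sub_eq_zero.1 (norm_eq_zero.1 h)
    choose v hv1 hvpos using hpos
    set s : Finset G := Finset.univ.filter (· ≠ 1) with hs
    have hsn : s.Nonempty := ⟨f^[0] b, by simp [hs]; simpa using hne 0⟩
    let δ : ℝ := s.inf' hsn fun y => if h : y ≠ 1 then ‖T y (v y h) - v y h‖ else 1
    have hδ : 0 < δ := by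
      rw [Finset.lt_inf'_iff]
      intro y hy
      rw [dif_pos (by simpa [hs] using hy)]
      exact hvpos y _
    obtain ⟨k, hk⟩ := exists_pow_lt_of_lt_one hδ (show 2 * c < 1 by linarith)
    have h1 : δ ≤ ‖T (f^[k] b) (v _ (hne k)) - v _ (hne k)‖ := by
      refine (Finset.inf'_le _ (show f^[k] b ∈ s by simp [hs, hne k])).trans ?_
      rw [dif_pos (hne k)]
    have h2 := hiter k (v _ (hne k))
    have h3 : (2 * c) ^ k * d * ‖v _ (hne k)‖ ≤ (2 * c) ^ k := by
      calc (2 * c) ^ k * d * ‖v _ (hne k)‖ ≤ (2 * c) ^ k * 1 * 1 := by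
            gcongr
            exact hv1 _ (hne k)
        _ = _ := by ring
    linarith
  obtain ⟨k, hk⟩ := hex
  -- walk back
  have hback : ∀ k, f^[k] b = 1 → a * b = b * a := by
    intro k
    induction k using Nat.strong_induction_on with
    | _ k ih =>
      intro hk
      match k with
      | 0 =>
        rw [Function.iterate_zero_apply] at hk
        rw [hk, mul_one, one_mul]
      | 1 =>
        rw [Function.iterate_one] at hk
        have h1 : a * b * a⁻¹ * b⁻¹ = 1 := hk
        exact mul_inv_eq_iff_eq_mul.1 (mul_inv_eq_one.1 h1)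
      | k + 2 =>
        apply ih (k + 1) (Nat.lt_succ_self _)
        rw [Function.iterate_succ_apply'] at hk
        have h1 : a * f^[k + 1] b * a⁻¹ * (f^[k + 1] b)⁻¹ = 1 := hk
        have h2 : a * f^[k + 1] b = f^[k + 1] b * a :=
          mul_inv_eq_iff_eq_mul.1 (mul_inv_eq_one.1 h1)
        rw [Function.iterate_succ_apply'] at h2 ⊢
        have hle : (2 * c) ^ k * d ≤ 1 := by
          calc (2 * c) ^ k * d ≤ 1 * 1 := by
                gcongr
                exact pow_le_one₀ (by linarith) (by linarith)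
            _ = 1 := one_mul 1
        have h3 := commute_of_commute_comm hT hinj h2 hle (by positivity) (hiter k)
        show a * f^[k] b * a⁻¹ * (f^[k] b)⁻¹ = 1
        rw [h3]; group
  exact hback k hk

theorem isSmall_conj (hT : IsIsometric T) {a : G} (ha : IsSmall T a) (g : G) :
    IsSmall T (g * a * g⁻¹) := by
  obtain ⟨c, hc0, hc, hca⟩ := ha
  refine ⟨c, hc0, hc, fun v => ?_⟩
  have e : T (g * a * g⁻¹) v - (mu : ℂ) • v =
      T g (T a (T g⁻¹ v) - (mu : ℂ) • T g⁻¹ v) := by
    rw [map_sub, map_smul, map_inv_apply_cancel, map_mul_apply, map_mul_apply]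
  rw [e, hT]
  refine (hca _).trans ?_
  rw [hT]

/-- The twelfth of the circle containing a point. -/
noncomputable def arc (z : ℂ) : ℤ := ⌊6 * Complex.arg z / Real.pi⌋

theorem arc_mem (z : ℂ) : -6 ≤ arc z ∧ arc z ≤ 6 := by
  unfold arc
  have hp := Real.pi_pos
  have h1 := Complex.neg_pi_lt_arg z
  have h2 := Complex.arg_le_pi z
  constructor
  · rw [Int.le_floor, le_div_iff₀ hp]; push_cast; linarith
  · have : 6 * Complex.arg z / Real.pi ≤ 6 := by rw [div_le_iff₀ hp]; linarith
    calc ⌊6 * Complex.arg z / Real.pi⌋ ≤ ⌊(6 : ℝ)⌋ := Int.floor_le_floor this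
      _ = 6 := by norm_num

/-- The twelfth of the circle, as an element of `Fin 12`. -/
noncomputable def arcFin (z : ℂ) : Fin 12 :=
  ⟨((arc z + 6) % 12).toNat, by have := Int.emod_lt_of_pos (arc z + 6) (by norm_num : (0:ℤ) < 12); omega⟩

theorem norm_conj_mul_sub_mu_lt {z w : ℂ} (hz : ‖z‖ = 1) (hw : ‖w‖ = 1) (h : arcFin z = arcFin w) :
    ‖conj z * w - (mu : ℂ)‖ < 1 / 2 := by
  have hp := Real.pi_pos
  have hd : ∃ k : ℤ, |Complex.arg w - Complex.arg z + k * (2 * Real.pi)| < Real.pi / 6 := by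
    have e := congrArg (fun x : Fin 12 => (x.val : ℤ)) h
    simp only [arcFin] at e
    rw [Int.toNat_of_nonneg (Int.emod_nonneg _ (by norm_num)),
      Int.toNat_of_nonneg (Int.emod_nonneg _ (by norm_num))] at e
    obtain ⟨k, hk⟩ : ∃ k : ℤ, arc z = arc w + 12 * k := by
      refine ⟨(arc z + 6) / 12 - (arc w + 6) / 12, ?_⟩
      have h1 := Int.emod_add_mul_ediv (arc z + 6) 12
      have h2 := Int.emod_add_mul_ediv (arc w + 6) 12
      linarith
    refine ⟨k, ?_⟩
    have hz1 := Int.floor_le (6 * Complex.arg z / Real.pi)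
    have hz2 := Int.lt_floor_add_one (6 * Complex.arg z / Real.pi)
    have hw1 := Int.floor_le (6 * Complex.arg w / Real.pi)
    have hw2 := Int.lt_floor_add_one (6 * Complex.arg w / Real.pi)
    have hk' : ((arc z : ℤ) : ℝ) = (arc w : ℝ) + 12 * k := by exact_mod_cast hk
    simp only [arc] at hk'
    rw [le_div_iff₀ hp] at hz1 hw1
    rw [div_lt_iff₀ hp] at hz2 hw2
    rw [hk'] at hz1 hz2
    rw [abs_lt]
    constructor <;> nlinarith
  obtain ⟨k, hk⟩ := hd
  have hre : mu < (conj z * w).re := by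
    have e1 : (conj z * w).re = Real.cos (Complex.arg w - Complex.arg z) := by
      rw [Real.cos_sub]
      have cz : Real.cos (Complex.arg z) = z.re := by
        rw [Complex.cos_arg (fun e => by simp [e] at hz), hz, div_one]
      have cw : Real.cos (Complex.arg w) = w.re := by
        rw [Complex.cos_arg (fun e => by simp [e] at hw), hw, div_one]
      rw [cz, cw, Complex.sin_arg, Complex.sin_arg, hz, hw]
      simp
      ring
    rw [e1, ← Real.cos_add_int_mul_two_pi _ k, ← Real.cos_abs]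
    calc mu = Real.cos (Real.pi / 6) := by rw [Real.cos_pi_div_six]; rfl
      _ < _ := Real.cos_lt_cos_of_nonneg_of_le_pi (abs_nonneg _) (by linarith) hk
  have hn : ‖conj z * w‖ = 1 := by rw [norm_mul, Complex.norm_conj, hz, hw, one_mul]
  have hsq : ‖conj z * w - (mu : ℂ)‖ ^ 2 < (1 / 2) ^ 2 := by
    rw [Complex.sq_norm, Complex.normSq_sub, Complex.normSq_eq_norm_sq, hn, Complex.normSq_ofReal,
      Complex.conj_ofReal, Complex.re_mul_ofReal]
    nlinarith [mu_sq, mu_pos]
  exact lt_of_pow_lt_pow_left₀ 2 (by norm_num) hsq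

theorem exists_abelian_normal (hT : IsIsometric T) (hinj : Function.Injective T) :
    ∃ A : Subgroup G, A.Normal ∧ (∀ x ∈ A, ∀ y ∈ A, x * y = y * x) ∧
      ∀ H : Subgroup G, (∀ x ∈ H, ∀ y ∈ H, x * y = y * x) →
        (A.subgroupOf H).index ≤ 12 ^ Module.finrank ℂ U := by
  classical
  set S : Set G := {g | IsSmall T g} with hS
  refine ⟨Subgroup.closure S, ?_, ?_, fun H hH => ?_⟩
  · refine ⟨fun x hx g => ?_⟩
    have : (Subgroup.closure S).map (MulAut.conj g).toMonoidHom ≤ Subgroup.closure S := by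
      rw [MonoidHom.map_closure, Subgroup.closure_le]
      rintro _ ⟨y, hy, rfl⟩
      exact Subgroup.subset_closure (isSmall_conj hT hy g)
    exact this ⟨x, hx, rfl⟩
  · intro x hx y hy
    have := Subgroup.isMulCommutative_closure (k := S)
      (fun a ha b hb => commute_of_small hT hinj ha hb)
    exact congrArg Subtype.val (this.is_comm.comm ⟨x, hx⟩ ⟨y, hy⟩)
  · have hH' : ∀ a ∈ (H : Set G), ∀ b ∈ (H : Set G), a * b = b * a := hH
    obtain ⟨s, hcard, hs⟩ := finite_joint hT (H : Set G)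
    let f : H ⧸ (Subgroup.closure S).subgroupOf H → (s → Fin 12) := fun q χ =>
      arcFin (χ.1 ⟨(q.out : H), (q.out).2⟩)
    have hf : Function.Injective f := by
      intro q r e
      rw [← QuotientGroup.out_eq' q, ← QuotientGroup.out_eq' r, QuotientGroup.eq,
        Subgroup.mem_subgroupOf]
      refine Subgroup.subset_closure ?_
      show IsSmall T _
      refine isSmall_of_joint hT (H : Set G) hH' ⟨((q.out)⁻¹ * r.out : H), ((q.out)⁻¹ * r.out).2⟩ ?_
      intro χ hχ
      obtain ⟨v, hv, hv0⟩ := Submodule.exists_mem_ne_zero_of_ne_bot hχ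
      have hv' := fun h : (H : Set G) => (Submodule.mem_iInf _).1 hv h
      have he : χ ⟨((q.out)⁻¹ * r.out : H), ((q.out)⁻¹ * r.out).2⟩ =
          conj (χ ⟨(q.out : H), q.out.2⟩) * χ ⟨(r.out : H), r.out.2⟩ := by
        have hq := norm_eigen hT (hv' ⟨(q.out : H), q.out.2⟩) hv0
        have h1 := Module.End.mem_eigenspace_iff.1 (hv' ⟨((q.out)⁻¹ * r.out : H), ((q.out)⁻¹ * r.out).2⟩)
        have hr := Module.End.mem_eigenspace_iff.1 (hv' ⟨(r.out : H), r.out.2⟩)
        have hqq := Module.End.mem_eigenspace_iff.1 (hv' ⟨(q.out : H), q.out.2⟩)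
        simp only at h1 hr hqq
        have h2 : T (r.out : H) v = (χ ⟨((q.out)⁻¹ * r.out : H), ((q.out)⁻¹ * r.out).2⟩ *
            χ ⟨(q.out : H), q.out.2⟩) • v := by
          rw [mul_smul, ← hqq, ← map_smul, ← h1, ← map_mul_apply]
          congr 2
          simp
        rw [hr] at h2
        have h3 := smul_left_injective ℂ hv0 h2
        rw [h3, mul_left_comm]
        have h4 : conj (χ ⟨(q.out : H), q.out.2⟩) * χ ⟨(q.out : H), q.out.2⟩ = 1 := by
          rw [Complex.conj_mul', hq]; norm_num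
        rw [h4, mul_one]
      rw [he]
      exact norm_conj_mul_sub_mu_lt (norm_eigen hT (hv' _) hv0) (norm_eigen hT (hv' _) hv0)
        (congrFun e ⟨χ, hs χ hχ⟩)
    have := Nat.card_le_card_of_injective f hf
    rw [← Subgroup.index_eq_card] at this
    refine this.trans ?_
    rw [Nat.card_fun, Nat.card_eq_finsetCard, Nat.card_fin]
    exact Nat.pow_le_pow_right (by norm_num) hcard

/-- A finite subgroup of `GL(n, ℂ)` acts isometrically for a suitable inner product. -/
theorem exists_abelian_normal_of_faithful {G : Type*} [Group G] [Finite G] {n : ℕ}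
    (ρ : Representation ℂ G (Fin n → ℂ)) (hρ : Function.Injective ρ) :
    ∃ A : Subgroup G, A.Normal ∧ (∀ x ∈ A, ∀ y ∈ A, x * y = y * x) ∧
      ∀ H : Subgroup G, (∀ x ∈ H, ∀ y ∈ H, x * y = y * x) →
        (A.subgroupOf H).index ≤ 12 ^ n := by
  classical
  haveI := Fintype.ofFinite G
  let j : (Fin n → ℂ) →ₗ[ℂ] EuclideanSpace ℂ (G × Fin n) :=
    { toFun := fun v => WithLp.toLp 2 (fun x => ρ x.1 v x.2)
      map_add' := fun a b => by ext x; simp
      map_smul' := fun c a => by ext x; simp }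
  have hj : Function.Injective j := by
    intro a b e
    funext i
    have := congrArg (fun z : EuclideanSpace ℂ (G × Fin n) => z (1, i)) e
    simpa [j] using this
  let e := LinearEquiv.ofInjective j hj
  let T : G →* Module.End ℂ (LinearMap.range j) :=
    { toFun := fun g => e.toLinearMap ∘ₗ ρ g ∘ₗ e.symm.toLinearMap
      map_one' := by apply LinearMap.ext; intro v; simp
      map_mul' := fun a b => by apply LinearMap.ext; intro v; simp [Module.End.mul_apply] }
  have hT : IsIsometric (U := ↥(LinearMap.range j)) T := by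
    intro g w
    obtain ⟨v, rfl⟩ := e.surjective w
    show ‖(e (ρ g (e.symm (e v))) : LinearMap.range j)‖ = ‖e v‖
    rw [e.symm_apply_apply, Submodule.coe_norm, Submodule.coe_norm,
      LinearEquiv.ofInjective_apply, LinearEquiv.ofInjective_apply, EuclideanSpace.norm_eq,
      EuclideanSpace.norm_eq]
    congr 1
    refine Fintype.sum_equiv ((Equiv.mulRight g).prodCongr (Equiv.refl (Fin n))) _ _ fun x => ?_
    simp [j, Equiv.prodCongr_apply, map_mul, Module.End.mul_apply]
  have hinj : Function.Injective T := by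
    intro a b hab
    apply hρ
    apply LinearMap.ext
    intro v
    have := congrArg e.symm (LinearMap.congr_fun hab (e v))
    simpa [T] using this
  have hdim : Module.finrank ℂ (LinearMap.range j) = n := by
    rw [LinearMap.finrank_range_of_inj hj, Module.finrank_fintype_fun_eq_card, Fintype.card_fin]
  rw [← hdim]
  exact exists_abelian_normal (U := ↥(LinearMap.range j)) hT hinj

end CfsgLib.LinearGroups
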