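import Mathlib
import Cfsg.Agent.Lib.LinearGroups.Blichfeldt
import Cfsg.Agent.Lib.CharTheory.FTBound
import Cfsg.Agent.Lib.CharTheory.AbelianInertia
import Cfsg.Agent.Lib.Transfer
import Cfsg.Agent.Lib.Coprime

/-!
# Feit–Thompson–Blichfeldt: linear groups of small degree are `p`-closed
-/

set_option autoImplicit false

namespace CfsgLib.LinearGroups.SmallClosed

open Cfsg CfsgLib.CharTheory CfsgLib.LinearGroups
open scoped ComplexConjugate commutatorElement

set_option linter.unusedVariables false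
set_option linter.unusedSectionVars false
set_option linter.style.haveILetI false

universe u

/-- The `p`-elements are closed under multiplication. -/
def PCl (p : ℕ) (G : Type u) [Group G] : Prop :=
  ∀ x y : G, (∃ k, x ^ p ^ k = 1) → (∃ k, y ^ p ^ k = 1) → ∃ k, (x * y) ^ p ^ k = 1

/-- The standing hypothesis. -/
def Hyp (n p : ℕ) (G : Type u) [Group G] : Prop :=
  (n + 1) ^ 2 ≤ p ∨ ∀ K : Subgroup G, ¬ p ^ 2 ∣ Nat.card K → PCl p K

variable {G : Type u} [Group G] {p n : ℕ}

theorem PCl.of_injective {H : Type u} [Group H] (f : H →* G) (hf : Function.Injective f)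
    (h : PCl p G) : PCl p H := by
  intro x y ⟨i, hi⟩ ⟨j, hj⟩
  obtain ⟨k, hk⟩ := h (f x) (f y) ⟨i, by rw [← map_pow, hi, map_one]⟩ ⟨j, by rw [← map_pow, hj, map_one]⟩
  exact ⟨k, hf (by rw [map_pow, map_mul, hk, map_one])⟩

theorem Hyp.subgroup (h : Hyp n p G) (L : Subgroup G) : Hyp n p L := by
  refine h.imp_right fun h K hK => ?_
  set e := K.equivMapOfInjective L.subtype L.subtype_injective
  exact (h (K.map L.subtype) (by rwa [← Nat.card_congr e.toEquiv])).of_injective e.toMonoidHom e.injective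

theorem pow_eq_one_of_mem {P : Subgroup G} (hP : IsPGroup p P) {x : G} (hx : x ∈ P) :
    ∃ k, x ^ p ^ k = 1 := by
  obtain ⟨k, hk⟩ := hP ⟨x, hx⟩
  exact ⟨k, congrArg Subtype.val hk⟩

theorem conj_pow_one {x : G} (h : ∃ k, x ^ p ^ k = 1) (g : G) : ∃ k, (g * x * g⁻¹) ^ p ^ k = 1 := by
  obtain ⟨k, hk⟩ := h
  exact ⟨k, by rw [conj_pow, hk]; group⟩

theorem mem_sylow_of_pcl [Finite G] [Fact p.Prime] (h : PCl p G) (P : Sylow p G) {x : G}
    (hx : ∃ k, x ^ p ^ k = 1) : x ∈ (P : Subgroup G) := by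
  let R : Subgroup G :=
    { carrier := {g | ∃ k, g ^ p ^ k = 1}
      one_mem' := ⟨0, one_pow _⟩
      mul_mem' := fun ha hb => h _ _ ha hb
      inv_mem' := fun ⟨k, hk⟩ => ⟨k, by rw [inv_pow, hk, inv_one]⟩ }
  have hR : IsPGroup p R := fun ⟨g, k, hk⟩ => ⟨k, Subtype.ext hk⟩
  have he : R = P := P.3 hR fun g hg => pow_eq_one_of_mem P.2 hg
  rw [← he]
  exact hx

theorem mem_of_pcl_sub [Finite G] [Fact p.Prime] {L : Subgroup G} (h : PCl p L) (P : Sylow p G)
    (hle : (P : Subgroup G) ≤ L) {x : G} (hxL : x ∈ L) (hx : ∃ k, x ^ p ^ k = 1) :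
    x ∈ (P : Subgroup G) := by
  obtain ⟨k, hk⟩ := hx
  exact Subgroup.mem_subgroupOf.1 (mem_sylow_of_pcl h (P.subtype hle) (x := ⟨x, hxL⟩) ⟨k, Subtype.ext hk⟩)

theorem pcl_of_normal [Finite G] [Fact p.Prime] (P : Sylow p G) (hP : (P : Subgroup G).Normal) :
    PCl p G := by
  have hmem : ∀ x : G, (∃ k, x ^ p ^ k = 1) → x ∈ (P : Subgroup G) := fun x ⟨k, hk⟩ => by
    have hx : IsPGroup p (Subgroup.zpowers x) := by
      rintro ⟨y, m, rfl⟩
      refine ⟨k, Subtype.ext ?_⟩
      show (x ^ m) ^ p ^ k = 1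
      rw [← zpow_natCast, ← zpow_mul, mul_comm, zpow_mul, zpow_natCast, hk, one_zpow]
    exact (P.3 (hx.to_sup_of_normal_right P.2) le_sup_right).le (Subgroup.mem_sup_left (Subgroup.mem_zpowers x))
  exact fun x y hx hy => pow_eq_one_of_mem P.2 (Subgroup.mul_mem _ (hmem x hx) (hmem y hy))

section Core

variable [Finite G] [Fact p.Prime]

/-- The case of a `q`-group extended by an abelian `p`-group. -/
theorem no_qgroup_extension (h : Faith n G) (hnp : n + 1 < p) (P : Subgroup G) (hP : IsPGroup p P)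
    (hPab : ∀ a ∈ P, ∀ b ∈ P, a * b = b * a) (R : Subgroup G) [R.Normal] {q : ℕ} [Fact q.Prime]
    (hR : IsPGroup q R) (hqp : q ≠ p) (hRP : R ⊔ P = ⊤)
    (hmin : ∀ T : Subgroup G, T ≤ R → T ≠ R → P ≤ Subgroup.normalizer (T : Set G) →
      T ≤ Subgroup.centralizer (P : Set G)) :
    R ≤ Subgroup.centralizer (P : Set G) := by
  classical
  haveI := Fintype.ofFinite G
  haveI := Fintype.ofFinite R
  by_contra hne
  have hPR : P ≤ Subgroup.normalizer (R : Set G) := by
    rw [Subgroup.normalizer_eq_top]; exact le_top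
  have hcop : (Nat.card P).Coprime (Nat.card R) := by
    obtain ⟨i, hi⟩ := IsPGroup.iff_card.1 hP
    obtain ⟨j, hj⟩ := IsPGroup.iff_card.1 hR
    rw [hi, hj]
    exact Nat.Coprime.pow i j ((Nat.coprime_primes Fact.out Fact.out).2 (Ne.symm hqp))
  haveI : Group.IsNilpotent R := hR.isNilpotent
  have hsolv : Group.IsSolvable P ∨ Group.IsSolvable R :=
    Or.inr inferInstance
  set C : Subgroup G := R ⊓ Subgroup.centralizer (P : Set G) with hC
  -- `[R, P] = R`
  have hRPc : ⁅R, P⁆ = R := by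
    by_contra hlt
    have hc := hmin _ (CfsgLib.commutator_le_of_le_normalizer hPR) hlt
      (CfsgLib.right_le_normalizer_commutator P R)
    have h1 : ⁅⁅R, P⁆, P⁆ = ⊥ := by
      rw [Subgroup.commutator_eq_bot_iff_le_centralizer]; exact hc
    rw [CfsgLib.coprime_commutator_commutator hPR hcop hsolv,
      Subgroup.commutator_eq_bot_iff_le_centralizer] at h1
    exact hne h1
  have hD : ⁅R, R⁆ ≤ Subgroup.centralizer (P : Set G) := by
    refine hmin _ (Subgroup.commutator_le_self R) (fun e => ?_) ?_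
    · have : R = ⊥ := CfsgLib.Transfer.eq_bot_of_le_commutator le_rfl e.ge
      exact hne (this ▸ bot_le)
    · haveI : (⁅R, R⁆ : Subgroup G).Normal := Subgroup.commutator_normal R R
      rw [Subgroup.normalizer_eq_top]; exact le_top
  have hDC : ∀ a ∈ R, ∀ b ∈ R, ⁅a, b⁆ ∈ C := fun a ha b hb =>
    Subgroup.mem_inf.2 ⟨Subgroup.commutator_le_self R (Subgroup.commutator_mem_commutator ha hb),
      hD (Subgroup.commutator_mem_commutator ha hb)⟩
  -- fixed elements are central
  have hCZ : ∀ c ∈ C, c ∈ Subgroup.center G := by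
    intro c hc
    have hcP : ∀ a ∈ P, a * c = c * a := fun a ha => Subgroup.mem_centralizer_iff.1 hc.2 a ha
    have hgen : ⁅R, P⁆ ≤ Subgroup.centralizer ({c} : Set G) := by
      rw [Subgroup.commutator_le]
      intro r hr a ha
      rw [Subgroup.mem_centralizer_singleton_iff]
      have hr' := R.inv_mem hr
      have ht := hDC c hc.1 r⁻¹ hr'
      have h1 : a * ⁅c, r⁻¹⁆ * a⁻¹ = ⁅c, r⁻¹⁆ := by
        rw [Subgroup.mem_centralizer_iff.1 ht.2 a ha, mul_inv_cancel_right]
      have hac : a * c * a⁻¹ = c := by rw [hcP a ha, mul_inv_cancel_right]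
      have h2 : c * (a * r⁻¹ * a⁻¹) * c⁻¹ * (a * r⁻¹ * a⁻¹)⁻¹ = c * r⁻¹ * c⁻¹ * r := by
        have e := map_commutatorElement (MulAut.conj a) c r⁻¹
        simp only [MulAut.conj_apply, h1, hac] at e
        simpa [commutatorElement_def] using e.symm
      have h3 : (a * r⁻¹ * a⁻¹) * c⁻¹ * (a * r⁻¹ * a⁻¹)⁻¹ = r⁻¹ * c⁻¹ * r := by
        simp only [mul_assoc] at h2 ⊢
        exact mul_left_cancel h2
      have h4 : Commute ⁅r, a⁆ c⁻¹ := by
        show ⁅r, a⁆ * c⁻¹ = c⁻¹ * ⁅r, a⁆
        calc ⁅r, a⁆ * c⁻¹ = r * ((a * r⁻¹ * a⁻¹) * c⁻¹ * (a * r⁻¹ * a⁻¹)⁻¹) * (a * r⁻¹ * a⁻¹) := by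
              rw [commutatorElement_def]; group
          _ = c⁻¹ * ⁅r, a⁆ := by rw [h3, commutatorElement_def]; group
      have h5 := h4.inv_right
      rwa [inv_inv] at h5
    rw [hRPc] at hgen
    rw [Subgroup.mem_center_iff]
    have htop : (⊤ : Subgroup G) ≤ Subgroup.centralizer ({c} : Set G) := by
      rw [← hRP]
      exact sup_le hgen fun a ha => Subgroup.mem_centralizer_singleton_iff.2 (hcP a ha)
    exact fun g => Subgroup.mem_centralizer_singleton_iff.1 (htop (Subgroup.mem_top g))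
  have hRn : (R : Subgroup G).Normal := inferInstance
  obtain ⟨l, hl, hf, -, -, -, hdeg⟩ := h.constituents
  obtain ⟨θ, hθl, r₀, hr₀, a₀, ha₀, hmove⟩ : ∃ θ ∈ l, ∃ r ∈ R, ∃ a ∈ P, θ ⁅r, a⁆ ≠ θ 1 := by
    by_contra hno
    push Not at hno
    refine hne fun r hr => Subgroup.mem_centralizer_iff.2 fun a ha => ?_
    exact (commutatorElement_eq_one_iff_mul_comm.1 (hf _ fun θ hθ => hno θ hθ r hr a ha)).symm
  obtain ⟨d, hd0, hd, hdn⟩ := hdeg θ hθl
  have hθ := hl θ hθl
  have hθc := isCharacter_of_irr hθ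
  have hθcl := isClassFunction_irr hθ
  obtain ⟨m, ρ, hρ, hρθ⟩ := hθ
  have hθ := hl θ hθl
  haveI := hρ
  have hfr : Module.finrank ℂ (Fin m → ℂ) = d := by
    have e := ρ.char_one
    rw [hρθ, hd] at e
    exact_mod_cast e.symm
  have hdne : (d : ℂ) ≠ 0 := Nat.cast_ne_zero.2 hd0.ne'
  have hmul : ∀ z g : G, ∀ ω : ℂ, ρ z = ω • LinearMap.id → θ (z * g) = ω * θ g := fun z g ω hω => by
    rw [← hρθ]
    show LinearMap.trace ℂ _ (ρ (z * g)) = _
    rw [map_mul, hω, ← Module.End.one_eq_id, smul_mul_assoc, one_mul, map_smul, smul_eq_mul]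
    rfl
  have hcen : ∀ c ∈ C, ∃ ω : ℂ, ρ c = ω • LinearMap.id := fun c hc =>
    exists_scalar_of_mem_center ρ (hCZ c hc)
  have hkerc : ∀ r : G, θ r = θ 1 → ρ r = 1 := fun r hr =>
    rep_apply_eq_one_of_char_eq ρ (by rw [hρθ]; exact hr)
  -- the constituent on `R`
  obtain ⟨η, hη, hne0⟩ := exists_constituent (isCharacter_restrict hθc R)
    (fun e => irr_ne_zero hθ (congrFun e 1))
  obtain ⟨e, he⟩ := classInner_char_nat (isCharacter_restrict hθc R) (isCharacter_of_irr hη)
  obtain ⟨f, hf0, hf1⟩ := irr_degree_pos hη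
  have hidx : (inertia R η).index ∣ Nat.card P := by
    refine (Subgroup.index_dvd_of_le (le_inertia R (isClassFunction_irr hη))).trans ?_
    have h2 : R.index = R.relIndex (R ⊔ P) := by rw [hRP, Subgroup.relIndex_top_right]
    rw [h2, Subgroup.relIndex_sup_left]
    exact Subgroup.relIndex_dvd_card R P
  have hdeg' : d = e * (inertia R η).index * f := by
    have := clifford_degree R hθ hη hne0
    rw [hd, he, hf1] at this
    exact_mod_cast this
  have hi1 : (inertia R η).index = 1 := by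
    obtain ⟨i, hi⟩ := IsPGroup.iff_card.1 hP
    rw [hi] at hidx
    obtain ⟨j, -, hj⟩ := (Nat.dvd_prime_pow Fact.out).1 hidx
    rcases Nat.eq_zero_or_pos j with h0 | h0
    · rw [hj, h0, pow_zero]
    · exfalso
      have h1 : p ≤ (inertia R η).index := hj ▸ Nat.le_self_pow h0.ne' p
      have he0 : 0 < e := Nat.pos_of_ne_zero fun h0' => hne0 (by rw [he, h0', Nat.cast_zero])
      have h2 : (inertia R η).index ≤ d := Nat.le_of_dvd hd0 ⟨e * f, by rw [hdeg']; ring⟩
      omega
  have hdef : d = e * f := by rw [hdeg', hi1, mul_one]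
  have hres : ∀ r : R, θ r = (e : ℂ) * η r := fun r => by
    have := congrFun (clifford_invariant R hθ hη hne0 fun g => by
      rw [← mem_inertia R, Subgroup.index_eq_one.1 hi1]; exact Subgroup.mem_top g) r
    simpa [he] using this
  -- the elements acting centrally on `R`
  let A : Subgroup G :=
    { carrier := {r | r ∈ R ∧ ∀ s ∈ R, ρ r * ρ s = ρ s * ρ r}
      one_mem' := ⟨R.one_mem, fun s _ => by simp⟩
      mul_mem' := fun {x y} hx hy => ⟨R.mul_mem hx.1 hy.1, fun s hs => by
        rw [map_mul, mul_assoc, hy.2 s hs, ← mul_assoc, hx.2 s hs, mul_assoc]⟩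
      inv_mem' := fun {x} hx => ⟨R.inv_mem hx.1, fun s hs => by
        calc ρ x⁻¹ * ρ s = ρ x⁻¹ * (ρ s * ρ x) * ρ x⁻¹ := by
              simp only [mul_assoc, ← map_mul, mul_inv_cancel, map_one, mul_one]
          _ = ρ x⁻¹ * (ρ x * ρ s) * ρ x⁻¹ := by rw [hx.2 s hs]
          _ = ρ s * ρ x⁻¹ := by simp only [← map_mul, inv_mul_cancel_left]⟩ }
  have hAinv : P ≤ Subgroup.normalizer (A : Set G) := by
    have hone : ∀ a ∈ P, ∀ r ∈ A, a * r * a⁻¹ ∈ A := fun a ha r hr => by
      refine ⟨hRn.conj_mem r hr.1 a, fun s hs => ?_⟩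
      have hs' : a⁻¹ * s * a ∈ R := by simpa using hRn.conj_mem s hs a⁻¹
      have h2 := congrArg (fun T => ρ a * T * ρ a⁻¹) (hr.2 _ hs')
      simp only [← map_mul] at h2 ⊢
      calc ρ (a * r * a⁻¹ * s) = ρ (a * (r * (a⁻¹ * s * a)) * a⁻¹) := by congr 1; group
        _ = ρ (a * (a⁻¹ * s * a * r) * a⁻¹) := h2
        _ = ρ (s * (a * r * a⁻¹)) := by congr 1; group
    intro a ha
    rw [Subgroup.mem_normalizer_iff]
    intro r
    refine ⟨hone a ha r, fun hr => ?_⟩
    have := hone a⁻¹ (P.inv_mem ha) _ hr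
    simpa [mul_assoc] using this
  have hAC : A ≤ C := by
    have hAne : A ≠ R := by
      intro hAR
      -- then `R` acts by scalars
      have hker : ∀ x y : R, η (x * y * x⁻¹ * y⁻¹) = η 1 := fun x y => by
        have hx : (x : G) ∈ A := by rw [hAR]; exact x.2
        have h2 : ρ ((x : G) * y * (x : G)⁻¹ * (y : G)⁻¹) = 1 := by
          rw [map_mul, map_mul, map_mul, hx.2 y y.2]
          simp only [mul_assoc, ← map_mul, mul_inv_cancel_left]
          simp
        have h3 : θ ((x * y * x⁻¹ * y⁻¹ : R) : G) = θ ((1 : R) : G) := by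
          rw [← hρθ]
          show LinearMap.trace ℂ _ (ρ _) = LinearMap.trace ℂ _ (ρ _)
          simp only [Subgroup.coe_mul, Subgroup.coe_inv, Subgroup.coe_one, h2, map_one ρ]
        rw [hres, hres] at h3
        exact mul_left_cancel₀ (fun h0 => hne0 (by rw [he, h0])) h3
      have hlin : η 1 = 1 :=
        irr_degree_one_of_kernel_commutator (charKernel η (isCharacter_of_irr hη))
          (fun x y => (mem_charKernel _ _).2 (hker x y)) hη (fun k hk => (mem_charKernel _ k).1 hk)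
      obtain ⟨φ, hφ⟩ := exists_hom_of_degree_one (isCharacter_of_irr hη) hlin
      have hef : d = e := by
        have hf1' : f = 1 := by rw [hlin] at hf1; exact_mod_cast hf1.symm
        rw [hdef, hf1', mul_one]
      have hsc : ∃ ω : ℂ, ρ r₀ = ω • LinearMap.id := by
        refine (norm_character_eq_iff ρ r₀).1 ?_
        rw [hρθ, hfr, show r₀ = ((⟨r₀, hr₀⟩ : R) : G) from rfl, hres, hφ]
        rw [norm_mul, Complex.norm_natCast, ← hef]
        have hn1 : ‖((φ (⟨r₀, hr₀⟩ : R) : ℂˣ) : ℂ)‖ = 1 := by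
          refine Complex.norm_eq_one_of_pow_eq_one (n := Nat.card R) ?_ Nat.card_pos.ne'
          rw [← Units.val_pow_eq_pow_val, ← map_pow, pow_card_eq_one', map_one, Units.val_one]
        rw [hn1, mul_one]
      obtain ⟨ω, hω⟩ := hsc
      apply hmove
      have hc : ρ r₀ * ρ a₀ = ρ a₀ * ρ r₀ := by
        rw [hω, ← Module.End.one_eq_id, smul_mul_assoc, one_mul, mul_smul_comm, mul_one]
      have h2 : ρ ⁅r₀, a₀⁆ = 1 := by
        rw [commutatorElement_def, map_mul, map_mul, map_mul, hc]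
        simp only [mul_assoc, ← map_mul, mul_inv_cancel_left]
        simp
      rw [← hρθ]
      show LinearMap.trace ℂ _ (ρ _) = LinearMap.trace ℂ _ (ρ 1)
      rw [h2, map_one ρ]
    exact le_inf (fun r hr => hr.1) (hmin A (fun r hr => hr.1) hAne hAinv)
  have hzero : ∀ r ∈ R, r ∉ C → θ r = 0 := by
    intro r hr hrC
    obtain ⟨s, hs, hrs⟩ : ∃ s ∈ R, ρ r * ρ s ≠ ρ s * ρ r := by
      by_contra hall
      push Not at hall
      exact hrC (hAC ⟨hr, hall⟩)
    obtain ⟨ω, hω⟩ := hcen _ (hDC s hs r hr)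
    have h1 : θ r = ω * θ r := by
      rw [← hmul _ r ω hω, show ⁅s, r⁆ * r = s * r * s⁻¹ by rw [commutatorElement_def]; group, hθcl]
    have hω1 : ω ≠ 1 := by
      intro hω1
      rw [hω1, one_smul, ← Module.End.one_eq_id] at hω
      apply hrs
      have h3 : ρ (s * r) = ρ (r * s) := by
        rw [show s * r = ⁅s, r⁆ * (r * s) by rw [commutatorElement_def]; group, map_mul, hω, one_mul]
      rw [← map_mul, ← map_mul, h3]
    have : (ω - 1) * θ r = 0 := by rw [sub_mul, one_mul, ← h1, sub_self]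
    exact (mul_eq_zero.1 this).resolve_left (sub_ne_zero.2 hω1)
  have hnorm : ∀ c ∈ C, ‖θ c‖ = (d : ℝ) := fun c hc => by
    obtain ⟨ω, hω⟩ := hcen c hc
    have := (norm_character_eq_iff ρ c).2 ⟨ω, hω⟩
    rwa [hρθ, hfr] at this
  -- count
  have hsum : ∑ r : R, θ r * conj (θ r) = (Nat.card C : ℂ) * (d : ℂ) ^ 2 := by
    rw [← Finset.sum_filter_add_sum_filter_not Finset.univ fun r : R => (r : G) ∈ C,
      Finset.sum_eq_zero (s := Finset.univ.filter fun r : R => ¬ (r : G) ∈ C) fun r hr => by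
        rw [hzero r r.2 (Finset.mem_filter.1 hr).2, zero_mul],
      add_zero, Finset.sum_congr rfl fun r hr => ?_, Finset.sum_const, nsmul_eq_mul]
    · congr 2
      rw [← Nat.card_congr (Subgroup.subgroupOfEquivOfLe (inf_le_left : C ≤ R)).toEquiv,
        Nat.card_eq_fintype_card]
      exact (Fintype.card_subtype _).symm
    · rw [Complex.mul_conj', hnorm r (Finset.mem_filter.1 hr).2, Complex.ofReal_natCast]
  have hR2 : Nat.card C * f ^ 2 = Nat.card R := by
    have he0 : (e : ℂ) ≠ 0 := fun h0 => hne0 (by rw [he, h0])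
    have h2 : ∑ r : R, η r * conj (η r) = (Nat.card R : ℂ) := sum_mul_conj_irr hη
    have h3 : ∑ r : R, θ r * conj (θ r) = (e : ℂ) ^ 2 * Nat.card R := by
      rw [← h2, Finset.mul_sum]
      refine Finset.sum_congr rfl fun r _ => ?_
      rw [hres, map_mul, Complex.conj_natCast]
      ring
    have h4 : ((Nat.card C * f ^ 2 : ℕ) : ℂ) = (Nat.card R : ℂ) := by
      refine mul_left_cancel₀ (pow_ne_zero 2 he0) ?_
      rw [← h3, hsum, hdef]
      push_cast
      ring
    exact_mod_cast h4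
  let α : P →* MulAut R := (MulAut.conjNormal (H := R)).comp P.subtype
  letI : MulAction P R := MulAction.compHom R α
  have hfix : Nat.card (MulAction.fixedPoints P R) = Nat.card C := by
    rw [← Nat.card_congr (Subgroup.subgroupOfEquivOfLe (inf_le_left : C ≤ R)).toEquiv]
    refine Nat.card_congr (Equiv.subtypeEquivRight fun r => ?_)
    have hiff : ∀ a : P, a • r = r ↔ (a : G) * r = r * a := fun a => by
      rw [Subtype.ext_iff]
      show (a : G) * r * (a : G)⁻¹ = r ↔ _
      exact mul_inv_eq_iff_eq_mul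
    rw [MulAction.mem_fixedPoints, Subgroup.mem_subgroupOf, Subgroup.mem_inf,
      Subgroup.mem_centralizer_iff]
    exact ⟨fun h => ⟨r.2, fun a ha => (hiff ⟨a, ha⟩).1 (h ⟨a, ha⟩)⟩,
      fun h a => (hiff a).2 (h.2 a a.2)⟩
  have hmod := hP.card_modEq_card_fixedPoints R
  rw [hfix, ← hR2] at hmod
  have hcopC : (Nat.card C).Coprime p := by
    obtain ⟨j, hj⟩ := IsPGroup.iff_card.1 hR
    exact Nat.Coprime.coprime_dvd_left (hj ▸ Subgroup.card_dvd_of_le (inf_le_left : C ≤ R))
      (Nat.Coprime.pow_left j ((Nat.coprime_primes Fact.out Fact.out).2 hqp))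
  have hf2 : f ^ 2 ≡ 1 [MOD p] := by
    refine Nat.ModEq.cancel_left_of_coprime (c := Nat.card C) (Nat.coprime_comm.1 hcopC) ?_
    rwa [mul_one]
  have hfle : f ≤ d := Nat.le_of_dvd hd0 ⟨e, by rw [hdef, mul_comm]⟩
  have hf1' : f = 1 := by
    have h1 : p ∣ f ^ 2 - 1 := (Nat.modEq_iff_dvd' (Nat.one_le_pow _ _ hf0)).1 hf2.symm
    rw [show f ^ 2 - 1 = (f + 1) * (f - 1) by simpa using Nat.sq_sub_sq f 1] at h1
    rcases (Nat.Prime.dvd_mul Fact.out).1 h1 with h2 | h2
    · exact absurd (Nat.le_of_dvd (Nat.succ_pos f) h2) (by omega)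
    · by_contra hne1
      exact absurd (Nat.le_of_dvd (by omega) h2) (by omega)
  rw [hf1', one_pow, mul_one] at hR2
  exact hne ((Subgroup.eq_of_le_of_card_ge (inf_le_left : C ≤ R) hR2.ge).ge.trans inf_le_right)

/-- Feit–Thompson–Blichfeldt. -/
theorem pcl_of_small : ∀ (N : ℕ) (G : Type u) [Group G] [Finite G], Nat.card G = N →
    Faith n G → n + 1 < p → Hyp n p G → PCl p G := by
  intro N
  induction N using Nat.strong_induction_on with
  | _ N ih =>
  intro G _ _ hN h hnp hH
  classical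
  haveI := Fintype.ofFinite G
  have hp : p.Prime := Fact.out
  obtain ⟨P⟩ := (inferInstance : Nonempty (Sylow p G))
  by_contra hbad
  have hprop : ∀ L : Subgroup G, L ≠ ⊤ → PCl p L := fun L hL => ih _
    (hN ▸ lt_of_le_of_ne (Subgroup.card_le_card_group L) fun e => hL (Subgroup.eq_top_of_card_eq L e))
    L rfl (h.subgroup L) hnp (hH.subgroup L)
  have hnn : ¬ (P : Subgroup G).Normal := fun hn => hbad (pcl_of_normal P hn)
  have hab : ∀ Q : Subgroup G, IsPGroup p Q → ∀ x ∈ Q, ∀ y ∈ Q, x * y = y * x := by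
    intro Q hQ x hx y hy
    refine congrArg Subtype.val ((h.subgroup Q).comm_of_pi (fun r hr hd => ?_) (⟨x, hx⟩ : Q) ⟨y, hy⟩)
    obtain ⟨i, hi⟩ := IsPGroup.iff_card.1 hQ
    rw [hi] at hd
    exact ⟨hr, ((Nat.prime_dvd_prime_iff_eq hr hp).1 (hr.dvd_of_dvd_pow hd)) ▸ hnp⟩
  have hnot : ∀ M : Subgroup G, M.Normal → (P : Subgroup G) ≤ M → M = ⊤ := by
    intro M hM hPM
    by_contra hne
    refine hnn ⟨fun x hx g => mem_of_pcl_sub (hprop M hne) P hPM (hM.conj_mem x (hPM hx) g) ?_⟩
    exact conj_pow_one (pow_eq_one_of_mem P.2 hx) g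
  have hcentral : ∀ Q : Subgroup G, Q.Normal → IsPGroup p Q → Q ≤ Subgroup.center G := by
    intro Q hQn hQ
    haveI := hQn
    have hQP : Q ≤ P := (P.3 (hQ.to_sup_of_normal_left P.2)
      le_sup_right).le.trans' le_sup_left
    have h1 := hnot (Subgroup.centralizer (Q : Set G)) inferInstance fun x hx =>
      Subgroup.mem_centralizer_iff.2 fun y hy => hab _ P.2 _ (hQP hy) _ hx
    intro y hy
    rw [Subgroup.mem_center_iff]
    intro g
    exact (Subgroup.mem_centralizer_iff.1 (h1 ▸ Subgroup.mem_top g) y hy).symm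
  by_cases hA : ∃ M : Subgroup G, ∃ _ : M.Normal, M ≠ ⊤ ∧ IsPGroup p (G ⧸ M)
  · obtain ⟨M, hMn, hMne, hMq⟩ := hA
    haveI := hMn
    have hMcl := hprop M hMne
    obtain ⟨T⟩ := (inferInstance : Nonempty (Sylow p M))
    set Q : Subgroup G := (T : Subgroup M).map M.subtype with hQ
    have hTmem : ∀ x : M, (∃ k, x ^ p ^ k = 1) → x ∈ (T : Subgroup M) := fun x hx =>
      mem_sylow_of_pcl hMcl T hx
    have hQp : IsPGroup p Q := T.2.map _
    haveI : Q.Normal := ⟨by
      rintro _ ⟨x, hx, rfl⟩ g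
      refine ⟨⟨g * x * g⁻¹, hMn.conj_mem _ x.2 g⟩, hTmem _ ?_, rfl⟩
      obtain ⟨k, hk⟩ := pow_eq_one_of_mem T.2 hx
      obtain ⟨j, hj⟩ := conj_pow_one ⟨k, congrArg Subtype.val hk⟩ g
      exact ⟨j, Subtype.ext hj⟩⟩
    have hQZ := hcentral Q inferInstance hQp
    have hcomm : ∀ t : M, t ∈ (T : Subgroup M) → ∀ r : M, t * r = r * t := fun t ht r =>
      Subtype.ext ((Subgroup.mem_center_iff.1 (hQZ ⟨t, ht, rfl⟩) (r : G)).symm)
    haveI : (T : Subgroup M).Normal := ⟨fun x hx g => by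
      rwa [← hcomm x hx g, mul_inv_cancel_right]⟩
    obtain ⟨K, hK⟩ := Subgroup.exists_right_complement'_of_coprime T.card_coprime_index
    have hKidx : (T : Subgroup M).index = Nat.card K := by
      have h1 := Subgroup.card_mul_index (T : Subgroup M)
      rw [← hK.card_mul] at h1
      exact Nat.eq_of_mul_eq_mul_left Nat.card_pos h1
    have hKp : ¬ p ∣ Nat.card K := hKidx ▸ T.not_dvd_index
    have hKmem : ∀ x : M, ¬ p ∣ orderOf x → x ∈ K := by
      intro x hx
      obtain ⟨⟨t, k⟩, htk⟩ := hK.surjective x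
      simp only at htk
      have h1 : (t : M) = 1 := by
        rw [← orderOf_eq_one_iff]
        obtain ⟨i, hi⟩ := pow_eq_one_of_mem T.2 t.2
        have hc : Commute (t : M) (k : M) := hcomm _ t.2 _
        have hco : (orderOf (t : M)).Coprime (orderOf (k : M)) := by
          refine (Nat.Coprime.coprime_dvd_left (orderOf_dvd_of_pow_eq_one hi) ?_)
          refine Nat.Coprime.coprime_dvd_right ?_ ((hp.coprime_iff_not_dvd.2 hKp).pow_left i)
          exact Subgroup.orderOf_coe k ▸ orderOf_dvd_natCard k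
        obtain ⟨j, -, hj⟩ := (Nat.dvd_prime_pow hp).1 (orderOf_dvd_of_pow_eq_one hi)
        rw [hj]
        by_contra hj1
        have hj0 : j ≠ 0 := fun e => hj1 (by rw [e, pow_zero])
        refine hx (htk ▸ ?_)
        rw [hc.orderOf_mul_eq_mul_orderOf_of_coprime hco]
        exact Dvd.dvd.mul_right (hj ▸ dvd_pow_self p hj0) _
      rw [← htk, h1, one_mul]
      exact k.2
    set R : Subgroup G := K.map M.subtype with hR
    have hRp : ¬ p ∣ Nat.card R := by
      rwa [hR, Subgroup.card_map_of_injective M.subtype_injective]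
    haveI : R.Normal := ⟨by
      rintro _ ⟨x, hx, rfl⟩ g
      refine ⟨⟨g * x * g⁻¹, hMn.conj_mem _ x.2 g⟩, hKmem _ fun hd => hKp ?_, rfl⟩
      rw [← Subgroup.orderOf_coe] at hd
      have h2 : orderOf (g * (x : G) * g⁻¹) = orderOf (x : G) :=
        orderOf_injective (MulAut.conj g).toMonoidHom (MulAut.conj g).injective x
      rw [h2, Subgroup.orderOf_coe] at hd
      exact hd.trans (Subgroup.orderOf_mk x hx ▸ orderOf_dvd_natCard (⟨x, hx⟩ : K))⟩
    have hMle : M ≤ R ⊔ P := by
      intro x hx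
      obtain ⟨⟨t, k⟩, htk⟩ := hK.surjective ⟨x, hx⟩
      have e : (x : G) = ((t : M) : G) * ((k : M) : G) := (congrArg Subtype.val htk).symm
      rw [e]
      refine Subgroup.mul_mem _ (Subgroup.mem_sup_right ?_) (Subgroup.mem_sup_left ⟨_, k.2, rfl⟩)
      have h1 : IsPGroup p (Q ⊔ (P : Subgroup G) : Subgroup G) := hQp.to_sup_of_normal_left P.2
      exact (P.3 h1 le_sup_right).le (Subgroup.mem_sup_left ⟨_, t.2, rfl⟩)
    have hRP : R ⊔ (P : Subgroup G) = ⊤ := by
      refine top_unique ?_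
      rw [← CfsgLib.Transfer.sylow_sup_eq_top_of_isPGroup_quotient P M hMq]
      exact sup_le le_sup_right hMle
    have hPR : (P : Subgroup G) ≤ Subgroup.normalizer (R : Set G) := by
      rw [Subgroup.normalizer_eq_top]; exact le_top
    have hcop : (Nat.card (P : Subgroup G)).Coprime (Nat.card R) := by
      obtain ⟨i, hi⟩ := IsPGroup.iff_card.1 P.2
      rw [hi]
      exact (hp.coprime_iff_not_dvd.2 hRp).pow_left i
    have hinf : ∀ x, x ∈ R → x ∈ (P : Subgroup G) → x = 1 := fun x hxR hxP =>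
      Subgroup.disjoint_def.1 (Subgroup.disjoint_of_coprime_natCard hcop) hxP hxR
    have hcomP : ∀ S : Subgroup G, S ≤ R → S ≠ R →
        (P : Subgroup G) ≤ Subgroup.normalizer (S : Set G) →
        S ≤ Subgroup.centralizer ((P : Subgroup G) : Set G) := by
      intro S hSR hne hnorm
      have hL : S ⊔ (P : Subgroup G) ≠ ⊤ := fun e => hne (le_antisymm hSR fun r hr => by
        have hr' : r ∈ S ⊔ (P : Subgroup G) := e ▸ Subgroup.mem_top r
        rw [← SetLike.mem_coe, Subgroup.coe_mul_of_right_le_normalizer_left _ _ hnorm] at hr'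
        obtain ⟨s, hs, a, ha, rfl⟩ := hr'
        have : a = 1 := hinf a (by
          rw [show a = s⁻¹ * (s * a) by group]; exact R.mul_mem (R.inv_mem (hSR hs)) hr) ha
        dsimp only
        rwa [this, mul_one])
      intro s hs
      rw [Subgroup.mem_centralizer_iff]
      intro a ha
      have h1 : s * a * s⁻¹ ∈ (P : Subgroup G) := mem_of_pcl_sub (hprop _ hL) P le_sup_right
        (Subgroup.mul_mem _ (Subgroup.mul_mem _ (Subgroup.mem_sup_left hs) (Subgroup.mem_sup_right ha))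
          (Subgroup.inv_mem _ (Subgroup.mem_sup_left hs)))
        (conj_pow_one (pow_eq_one_of_mem P.2 ha) s)
      have h2 : s * a * s⁻¹ * a⁻¹ ∈ R := by
        rw [show s * a * s⁻¹ * a⁻¹ = s * (a * s⁻¹ * a⁻¹) by group]
        exact R.mul_mem (hSR hs) ((inferInstance : R.Normal).conj_mem _ (R.inv_mem (hSR hs)) a)
      have h3 := hinf _ h2 (Subgroup.mul_mem _ h1 (Subgroup.inv_mem _ ha))
      exact (commutatorElement_eq_one_iff_mul_comm.1 (by rw [commutatorElement_def]; exact h3)).symm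
    have hRC : R ≤ Subgroup.centralizer ((P : Subgroup G) : Set G) := by
      set C := R ⊓ Subgroup.centralizer ((P : Subgroup G) : Set G)
      by_cases hone : ∃ q : ℕ, q.Prime ∧ q ∣ Nat.card R ∧ IsPGroup q R
      · obtain ⟨q, hq, hqd, hRq⟩ := hone
        haveI : Fact q.Prime := ⟨hq⟩
        exact no_qgroup_extension h hnp P P.2 (hab _ P.2) R hRq (fun e => hRp (e ▸ hqd)) hRP hcomP
      · have hCR : Nat.card R ∣ Nat.card C := by
          rw [Nat.dvd_iff_prime_pow_dvd_dvd]
          intro q k hq hk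
          haveI : Fact q.Prime := ⟨hq⟩
          rcases Nat.eq_zero_or_pos k with h0 | h0
          · simp [h0]
          have hsol : Group.IsSolvable (P : Subgroup G) ∨ Group.IsSolvable R := by
            haveI := P.2.isNilpotent
            exact Or.inl inferInstance
          obtain ⟨S, hS⟩ := CfsgLib.coprime_exists_invariant_sylow hPR hcop hsol q
          have hne : (S : Subgroup R).map R.subtype ≠ R := fun e =>
            hone ⟨q, hq, (dvd_pow_self q h0.ne').trans hk, e ▸ S.2.map R.subtype⟩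
          have hle : (S : Subgroup R).map R.subtype ≤ C :=
            le_inf (Subgroup.map_subtype_le _) (hcomP _ (Subgroup.map_subtype_le _) hne hS)
          refine dvd_trans ?_ (Subgroup.card_dvd_of_le hle)
          rw [Subgroup.card_map_of_injective R.subtype_injective]
          exact S.pow_dvd_card_of_pow_dvd_card hk
        exact (Subgroup.eq_of_le_of_card_ge inf_le_left (Nat.le_of_dvd Nat.card_pos hCR)).ge.trans
          inf_le_right
    refine hnn (Subgroup.normalizer_eq_top_iff.1 (top_unique ?_))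
    rw [← hRP]
    refine sup_le (fun r hr => ?_) Subgroup.le_normalizer
    rw [Subgroup.mem_normalizer_iff]
    intro x
    have hx' : ∀ x ∈ (P : Subgroup G), r * x * r⁻¹ = x := fun x hx => by
      rw [← Subgroup.mem_centralizer_iff.1 (hRC hr) x hx, mul_inv_cancel_right]
    refine ⟨fun hx => by rwa [hx' x hx], fun hx => ?_⟩
    have := hx' _ hx
    have e : r * x * r⁻¹ = x := mul_left_cancel (mul_right_cancel this)
    rwa [e] at hx
  -- no proper normal subgroup of `p`-power index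
  have hnoQ : ∀ Q : Subgroup G, Q.Normal → IsPGroup p Q → Q = ⊥ := by
    intro Q hQn hQ
    by_contra hne
    have : Nontrivial Q := (Subgroup.nontrivial_iff_ne_bot Q).2 hne
    obtain ⟨i, hi, hi'⟩ := hQ.nontrivial_iff_card.1 this
    obtain ⟨x, hx⟩ := exists_prime_orderOf_dvd_card' (G := Q) p (hi' ▸ dvd_pow_self p hi.ne')
    obtain ⟨f, hfx, hfp⟩ := exists_hom_of_central h ⟨hp, hnp⟩ (x := (x : G))
      (by rw [Subgroup.orderOf_coe, hx]) (Subgroup.mem_center_iff.1 (hcentral Q hQn hQ x.2))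
    exact hA ⟨f.ker, inferInstance, fun e => hfx (MonoidHom.mem_ker.1 (e ▸ Subgroup.mem_top _)),
      hfp.of_equiv (QuotientGroup.quotientKerEquivRange f).symm⟩
  have hPne : (P : Subgroup G) ≠ ⊥ := fun e => hnn (e ▸ inferInstance)
  obtain ⟨l, hl, hf, -, -, -, hdeg⟩ := h.constituents
  obtain ⟨θ, hθl, x₀, hx₀, hmove⟩ : ∃ θ ∈ l, ∃ x ∈ (P : Subgroup G), θ x ≠ θ 1 := by
    by_contra hno
    push Not at hno
    exact hPne ((Subgroup.eq_bot_iff_forall _).2 fun x hx => hf x fun θ hθ => hno θ hθ x hx)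
  obtain ⟨d, hd0, hd, hdn⟩ := hdeg θ hθl
  have hd2 : 2 ≤ d := by
    by_contra hlt
    obtain ⟨φ, hφ⟩ := exists_hom_of_degree_one (isCharacter_of_irr (hl θ hθl))
      (by rw [hd, show d = 1 by omega, Nat.cast_one])
    have htop : φ.ker ⊔ (P : Subgroup G) = ⊤ := by
      have hn : (φ.ker ⊔ (P : Subgroup G)).Normal := ⟨fun y hy g => by
        have hc : φ (g * y * g⁻¹ * y⁻¹) = 1 := by
          simp only [map_mul, map_inv]
          rw [mul_comm (φ g), mul_inv_cancel_right, mul_inv_cancel]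
        have := Subgroup.mul_mem (φ.ker ⊔ (P : Subgroup G)) (Subgroup.mem_sup_left (MonoidHom.mem_ker.2 hc)) hy
        rwa [inv_mul_cancel_right] at this⟩
      exact hnot _ hn le_sup_right
    refine hA ⟨φ.ker, inferInstance, fun e => hmove ?_, ?_⟩
    · have : φ x₀ = 1 := MonoidHom.mem_ker.1 (e ▸ Subgroup.mem_top x₀)
      rw [hφ]; simp [this]
    · refine P.2.of_surjective ((QuotientGroup.mk' φ.ker).comp (P : Subgroup G).subtype) fun z => ?_
      obtain ⟨g, rfl⟩ := QuotientGroup.mk'_surjective _ z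
      have hg : g ∈ φ.ker ⊔ (P : Subgroup G) := htop ▸ Subgroup.mem_top g
      rw [← SetLike.mem_coe, Subgroup.normal_mul] at hg
      obtain ⟨k, hk, a, ha, rfl⟩ := hg
      refine ⟨⟨a, ha⟩, ?_⟩
      show QuotientGroup.mk' _ a = QuotientGroup.mk' _ (k * a)
      rw [map_mul, show QuotientGroup.mk' φ.ker k = 1 from (QuotientGroup.eq_one_iff k).mpr hk, one_mul]
  have hPZ : (P : Subgroup G) ⊓ Subgroup.center G = ⊥ := by
    refine hnoQ _ ⟨fun y hy g => ?_⟩ (P.2.to_le inf_le_left)
    rwa [Subgroup.mem_center_iff.1 hy.2 g, mul_inv_cancel_right]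
  have hPab := hab _ P.2
  have hone : ∀ g : G, g ∉ Subgroup.center G → ∀ a b : G,
      Subgroup.centralizer ({g} : Set G) ⊓ (P : Subgroup G).map (MulAut.conj a).toMonoidHom ≠ ⊥ →
      Subgroup.centralizer ({g} : Set G) ⊓ (P : Subgroup G).map (MulAut.conj b).toMonoidHom ≠ ⊥ →
      (P : Subgroup G).map (MulAut.conj a).toMonoidHom = (P : Subgroup G).map (MulAut.conj b).toMonoidHom := by
    intro g hg a b hna hnb
    set Pa := (P : Subgroup G).map (MulAut.conj a).toMonoidHom with hPa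
    set Pb := (P : Subgroup G).map (MulAut.conj b).toMonoidHom with hPb
    -- a non-trivial element of a conjugate has a proper centralizer with that conjugate as Sylow
    have key : ∀ c : G, ∀ x ∈ (P : Subgroup G).map (MulAut.conj c).toMonoidHom, x ≠ 1 → ∀ y : G,
        y * x = x * y → (∃ k, y ^ p ^ k = 1) → y ∈ (P : Subgroup G).map (MulAut.conj c).toMonoidHom := by
      rintro c _ ⟨x, hx, rfl⟩ hne y hyx hy
      set z : G := c * x * c⁻¹
      change z ≠ 1 at hne
      change y * z = z * y at hyx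
      have hx1 : x ≠ 1 := fun e => hne (by simp only [z, e, mul_one, mul_inv_cancel])
      have hL : Subgroup.centralizer ({x} : Set G) ≠ ⊤ := fun e => hx1 (by
        have : x ∈ (P : Subgroup G) ⊓ Subgroup.center G :=
          ⟨hx, Subgroup.mem_center_iff.2 fun u => Subgroup.mem_centralizer_singleton_iff.1 (e ▸ Subgroup.mem_top u)⟩
        rwa [hPZ] at this)
      have h1 : c⁻¹ * y * c ∈ Subgroup.centralizer ({x} : Set G) := by
        rw [Subgroup.mem_centralizer_singleton_iff]
        calc c⁻¹ * y * c * x = c⁻¹ * (y * z) * c := by simp only [z]; group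
          _ = c⁻¹ * (z * y) * c := by rw [hyx]
          _ = _ := by simp only [z]; group
      have h2 := mem_of_pcl_sub (hprop _ hL) P
        (fun u hu => Subgroup.mem_centralizer_singleton_iff.2 (hPab u hu x hx)) h1
        (by simpa using conj_pow_one hy c⁻¹)
      exact ⟨_, h2, by show c * (c⁻¹ * y * c) * c⁻¹ = y; group⟩
    obtain ⟨x, hx, hx1⟩ := (Subgroup.bot_or_exists_ne_one _).resolve_left hna
    obtain ⟨y, hy, hy1⟩ := (Subgroup.bot_or_exists_ne_one _).resolve_left hnb
    rw [Subgroup.mem_inf, Subgroup.mem_centralizer_singleton_iff] at hx hy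
    have hCg : Subgroup.centralizer ({g} : Set G) ≠ ⊤ := fun e => hg (Subgroup.mem_center_iff.2 fun u =>
      (Subgroup.mem_centralizer_singleton_iff.1 (e ▸ Subgroup.mem_top u)))
    have hxp := pow_eq_one_of_mem (P.2.map _) hx.2
    have hyp := pow_eq_one_of_mem (P.2.map _) hy.2
    obtain ⟨T⟩ := (inferInstance : Nonempty (Sylow p (Subgroup.centralizer ({g} : Set G))))
    have hcl := hprop _ hCg
    have hmemT : ∀ u : G, ∀ hu : u * g = g * u, (∃ k, u ^ p ^ k = 1) →
        (⟨u, Subgroup.mem_centralizer_singleton_iff.2 hu⟩ : Subgroup.centralizer ({g} : Set G)) ∈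
          (T : Subgroup _) := fun u hu ⟨k, hk⟩ => mem_sylow_of_pcl hcl T ⟨k, Subtype.ext hk⟩
    have hxy : y * x = x * y := by
      have hTab := hab _ (T.2.map (Subgroup.centralizer ({g} : Set G)).subtype)
      exact hTab y ⟨_, hmemT y hy.1 hyp, rfl⟩ x ⟨_, hmemT x hx.1 hxp, rfl⟩
    have hya : y ∈ Pa := key a x hx.2 hx1 y hxy hyp
    apply le_antisymm
    · intro u hu
      exact key b y hy.2 hy1 u ((hab Pa (P.2.map _)) u hu y hya) (pow_eq_one_of_mem (P.2.map _) hu)
    · intro u hu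
      exact key a y hya hy1 u ((hab Pb (P.2.map _)) u hu y hy.2) (pow_eq_one_of_mem (P.2.map _) hu)
  haveI := Fintype.ofFinite (P : Subgroup G)
  have hb := FTBound.bound' (P : Subgroup G) hPab hPZ hone (hl θ hθl) hd hd2 hnot
  have hb' : Nat.card (P : Subgroup G) < (n + 1) ^ 2 :=
    lt_of_lt_of_le hb (Nat.pow_le_pow_left (by omega) 2)
  rcases hH with h1 | h2
  · have h3 : p ≤ Nat.card (P : Subgroup G) := by
      obtain ⟨i, hi⟩ := IsPGroup.iff_card.1 P.2
      have hi0 : i ≠ 0 := fun e => hPne (Subgroup.eq_bot_of_card_eq _ (by rw [hi, e, pow_zero]))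
      exact hi ▸ Nat.le_self_pow hi0 p
    omega
  · by_cases hp2 : p ^ 2 ∣ Nat.card G
    · have h3 : p ^ 2 ≤ Nat.card (P : Subgroup G) :=
        Nat.le_of_dvd Nat.card_pos (P.pow_dvd_card_of_pow_dvd_card hp2)
      have h4 : (n + 1) ^ 2 < p ^ 2 := Nat.pow_lt_pow_left hnp two_ne_zero
      omega
    · exact hbad ((h2 ⊤ (by rwa [Subgroup.card_top])).of_injective
        (Subgroup.topEquiv (G := G)).symm.toMonoidHom (Subgroup.topEquiv (G := G)).symm.injective)

end Core

end CfsgLib.LinearGroups.SmallClosed
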